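import Mathlib
import Cfsg.Agent.S4262

/-!
# Normal subgroups whose noncentral elements have maximal centralizers: basic facts (for S3905)
-/

set_option autoImplicit false

namespace Cfsg.Agent.Lib.Helper69.MaxCent

variable {G : Type*} [Group G]

/-- the centralizer of one element -/
abbrev cz (x : G) : Subgroup G := Subgroup.centralizer ({x} : Set G)

theorem mem_cz {x g : G} : g ∈ cz x ↔ Commute g x := by
  rw [Subgroup.mem_centralizer_iff]
  simp [commute_iff_eq, eq_comm]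

theorem self_mem_cz (x : G) : x ∈ cz x := mem_cz.mpr (Commute.refl x)

theorem cz_le_cz_pow (x : G) (k : ℕ) : cz x ≤ cz (x ^ k) := fun _ hg =>
  mem_cz.mpr ((mem_cz.mp hg).pow_right k)

theorem cz_le_cz_zpow (x : G) (k : ℤ) : cz x ≤ cz (x ^ k) := fun _ hg =>
  mem_cz.mpr ((mem_cz.mp hg).zpow_right k)

/-- `Z(N)` as a subgroup of `G` -/
def zN (N : Subgroup G) : Subgroup G := N ⊓ Subgroup.centralizer (N : Set G)

theorem mem_zN {N : Subgroup G} {x : G} : x ∈ zN N ↔ x ∈ N ∧ ∀ n ∈ N, Commute x n := by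
  unfold zN
  rw [Subgroup.mem_inf, Subgroup.mem_centralizer_iff]
  constructor
  · rintro ⟨h1, h2⟩
    exact ⟨h1, fun n hn => (h2 n hn).symm⟩
  · rintro ⟨h1, h2⟩
    exact ⟨h1, fun n hn => (h2 n hn).symm⟩

theorem zN_le (N : Subgroup G) : zN N ≤ N := inf_le_left

instance zN_normal (N : Subgroup G) [N.Normal] : (zN N).Normal := by
  unfold zN
  infer_instance

/-- the hypothesis of S3905 -/
def Hyp (N : Subgroup G) : Prop :=
  ∀ x : G, x ∈ N → x ∉ Subgroup.centralizer (N : Set G) → IsCoatom (cz x)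

/-- `x ∈ N ∖ Z(N)` -/
def NZ (N : Subgroup G) (x : G) : Prop := x ∈ N ∧ x ∉ Subgroup.centralizer (N : Set G)

theorem NZ.not_mem_zN {N : Subgroup G} {x : G} (h : NZ N x) : x ∉ zN N := fun h' => h.2 h'.2

theorem nz_iff {N : Subgroup G} {x : G} : NZ N x ↔ x ∈ N ∧ x ∉ zN N :=
  ⟨fun h => ⟨h.1, h.not_mem_zN⟩, fun h => ⟨h.1, fun h' => h.2 ⟨h.1, h'⟩⟩⟩

theorem NZ.not_le {N : Subgroup G} {x : G} (h : NZ N x) : ¬ N ≤ cz x := by
  intro hle
  apply h.2
  rw [Subgroup.mem_centralizer_iff]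
  intro n hn
  exact (mem_cz.mp (hle hn)).eq

theorem NZ.ne_one {N : Subgroup G} {x : G} (h : NZ N x) : x ≠ 1 := by
  rintro rfl
  exact h.2 (Subgroup.one_mem _)

theorem NZ.of_pow {N : Subgroup G} {x : G} {k : ℕ} (hx : x ∈ N) (h : NZ N (x ^ k)) : NZ N x :=
  ⟨hx, fun h' => h.2 (Subgroup.pow_mem _ h' k)⟩

theorem NZ.of_zpow {N : Subgroup G} {x : G} {k : ℤ} (hx : x ∈ N) (h : NZ N (x ^ k)) : NZ N x :=
  ⟨hx, fun h' => h.2 (Subgroup.zpow_mem _ h' k)⟩

theorem zN_le_cz {N : Subgroup G} {x : G} (hx : x ∈ N) : zN N ≤ cz x := fun _ hz =>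
  mem_cz.mpr ((mem_zN.mp hz).2 x hx)

variable {N : Subgroup G}

theorem Hyp.cz_eq_of_le (h : Hyp N) {x y : G} (hx : NZ N x) (hy : NZ N y) (hle : cz x ≤ cz y) :
    cz x = cz y := by
  rcases (h x hx.1 hx.2).le_iff.mp hle with h1 | h1
  · exact absurd (h1 ▸ le_top) hy.not_le
  · exact h1.symm

/-- (a) -/
theorem Hyp.sup_eq_top (h : Hyp N) {x : G} (hx : NZ N x) (L : Subgroup G) (hL : ¬ L ≤ cz x) :
    L ⊔ cz x = ⊤ := by
  apply (h x hx.1 hx.2).2
  refine lt_of_le_of_ne le_sup_right ?_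
  intro he
  apply hL
  rw [he]
  exact le_sup_left

/-- (a) `F1'` -/
theorem Hyp.factor (h : Hyp N) {x : G} (hx : NZ N x) (L : Subgroup G) [L.Normal] (hLN : L ≤ N)
    (hL : ¬ L ≤ cz x) : ∀ n ∈ N, ∃ l ∈ L, ∃ c ∈ N ⊓ cz x, n = l * c := by
  intro n hn
  have hn' : n ∈ L ⊔ cz x := (h.sup_eq_top hx L hL) ▸ Subgroup.mem_top n
  rw [← SetLike.mem_coe, Subgroup.normal_mul] at hn'
  obtain ⟨l, hl, c, hc, rfl⟩ := hn'
  refine ⟨l, hl, c, ⟨?_, hc⟩, rfl⟩
  have : c = l⁻¹ * (l * c) := by group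
  rw [this]
  exact N.mul_mem (N.inv_mem (hLN hl)) hn

/-- (b) -/
theorem Hyp.conj_eq [N.Normal] (h : Hyp N) {x : G} (hx : NZ N x) (g : G) :
    ∃ n ∈ N, g * x * g⁻¹ = n * x * n⁻¹ := by
  have hg : g ∈ N ⊔ cz x := (h.sup_eq_top hx N hx.not_le) ▸ Subgroup.mem_top g
  rw [← SetLike.mem_coe, Subgroup.normal_mul] at hg
  obtain ⟨n, hn, c, hc, rfl⟩ := hg
  refine ⟨n, hn, ?_⟩
  have hc' : c * x = x * c := (mem_cz.mp hc).eq
  calc n * c * x * (n * c)⁻¹ = n * (c * x) * c⁻¹ * n⁻¹ := by group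
    _ = n * x * n⁻¹ := by rw [hc']; group

/-- (d) -/
theorem Hyp.cz_eq_of_coprime [Finite G] (h : Hyp N) {x y : G} (hx : NZ N x) (hy : NZ N y)
    (hcomm : Commute x y) (hc : (orderOf x).Coprime (orderOf y)) : cz x = cz y := by
  obtain ⟨a, ha⟩ := exists_pow_eq_self_of_coprime hc.symm
  obtain ⟨b, hb⟩ := exists_pow_eq_self_of_coprime hc
  have h1 : ((x * y) ^ orderOf y) ^ a = x := by
    rw [hcomm.mul_pow, pow_orderOf_eq_one, mul_one, ha]
  have h2 : ((x * y) ^ orderOf x) ^ b = y := by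
    rw [hcomm.mul_pow, pow_orderOf_eq_one, one_mul, hb]
  have l1 : cz (x * y) ≤ cz x := by
    conv_rhs => rw [← h1, ← pow_mul]
    exact cz_le_cz_pow _ _
  have l2 : cz (x * y) ≤ cz y := by
    conv_rhs => rw [← h2, ← pow_mul]
    exact cz_le_cz_pow _ _
  have hxy : NZ N (x * y) := by
    apply NZ.of_pow (k := orderOf y * a) (N.mul_mem hx.1 hy.1)
    rw [pow_mul, h1]
    exact hx
  rw [← h.cz_eq_of_le hxy hx l1, h.cz_eq_of_le hxy hy l2]

/-- (e) -/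
theorem Hyp.exists_primary [Finite G] (h : Hyp N) (g : G) (hg : NZ N g) :
    ∃ (p : ℕ) (i : ℤ), p.Prime ∧ NZ N (g ^ i) ∧ (∃ k, orderOf (g ^ i) = p ^ k) ∧
      cz (g ^ i) = cz g := by
  induction hn : orderOf g using Nat.strong_induction_on generalizing g with
  | _ n ih =>
    have hn1 : n ≠ 1 := by
      intro h1
      rw [h1, orderOf_eq_one_iff] at hn
      exact hg.ne_one hn
    obtain ⟨p, hp, hpn⟩ := Nat.exists_prime_and_dvd hn1
    obtain ⟨i, j, hij, ⟨k, hk⟩, hj⟩ := Cfsg.Agent.S4262.exists_parts p hp g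
    by_cases hi : g ^ i ∈ Subgroup.centralizer (N : Set G)
    · have hjc : NZ N (g ^ j) := by
        refine ⟨N.zpow_mem hg.1 j, ?_⟩
        intro h'
        apply hg.2
        rw [hij]
        exact Subgroup.mul_mem _ hi h'
      have hlt : orderOf (g ^ j) < n := by
        have hd : orderOf (g ^ j) ∣ n :=
          hn ▸ orderOf_dvd_of_mem_zpowers (Subgroup.zpow_mem_zpowers g j)
        refine lt_of_le_of_ne (Nat.le_of_dvd (hn ▸ orderOf_pos g) hd) ?_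
        intro he
        rw [he] at hj
        exact (Nat.Prime.coprime_iff_not_dvd hp).mp hj.symm hpn
      obtain ⟨q, i', hq, hx, hxk, hxc⟩ := ih _ hlt (g ^ j) hjc rfl
      refine ⟨q, j * i', hq, ?_, ?_, ?_⟩
      · rw [zpow_mul]; exact hx
      · rw [zpow_mul]; exact hxk
      · rw [zpow_mul, hxc]
        exact (h.cz_eq_of_le hg hjc (cz_le_cz_zpow g j)).symm
    · have hi' : NZ N (g ^ i) := ⟨N.zpow_mem hg.1 i, hi⟩
      exact ⟨p, i, hp, hi', ⟨k, hk⟩, (h.cz_eq_of_le hg hi' (cz_le_cz_zpow g i)).symm⟩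

/-- (f) `F4` -/
theorem Hyp.pprime_central [Finite G] (h : Hyp N) {p : ℕ} {x : G} (hx : NZ N x)
    (hk : ∃ k, orderOf x = p ^ k) {y : G} (hy : y ∈ N ⊓ cz x) (hyp : (orderOf y).Coprime p)
    {c : G} (hc : c ∈ N ⊓ cz x) : Commute y c := by
  obtain ⟨k, hk⟩ := hk
  by_cases hyZ : y ∈ Subgroup.centralizer (N : Set G)
  · exact (mem_zN.mp ⟨hy.1, hyZ⟩).2 c hc.1
  · have hcop : (orderOf x).Coprime (orderOf y) := by
      rw [hk]; exact Nat.Coprime.pow_left k hyp.symm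
    have he := h.cz_eq_of_coprime hx ⟨hy.1, hyZ⟩ (mem_cz.mp hy.2).symm hcop
    exact (mem_cz.mp (he ▸ hc.2)).symm

/-- (g) -/
theorem Hyp.dichotomy [N.Normal] (h : Hyp N) {x : G} (hx : NZ N x) :
    (∀ g : G, g * x * g⁻¹ * x⁻¹ ∈ zN N) ∨ (∀ g : G, g * x * g⁻¹ * x⁻¹ ∈ zN N → g ∈ cz x) := by
  let M : Subgroup G := (cz (QuotientGroup.mk' (zN N) x)).comap (QuotientGroup.mk' (zN N))
  have hM : ∀ g : G, g ∈ M ↔ g * x * g⁻¹ * x⁻¹ ∈ zN N := by
    intro g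
    show QuotientGroup.mk' (zN N) g ∈ cz (QuotientGroup.mk' (zN N) x) ↔ _
    rw [mem_cz, commute_iff_eq, ← (QuotientGroup.eq_one_iff _)]
    show _ ↔ QuotientGroup.mk' (zN N) (g * x * g⁻¹ * x⁻¹) = 1
    rw [map_mul, map_mul, map_mul, map_inv, map_inv, mul_inv_eq_one, mul_inv_eq_iff_eq_mul]
  have hle : cz x ≤ M := by
    intro g hg
    rw [hM]
    have : g * x * g⁻¹ * x⁻¹ = 1 := by
      rw [(mem_cz.mp hg).eq]; group
    rw [this]
    exact Subgroup.one_mem _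
  rcases (h x hx.1 hx.2).le_iff.mp hle with h1 | h1
  · left
    intro g
    rw [← hM, h1]
    exact Subgroup.mem_top g
  · right
    intro g hg
    rw [← h1, hM]
    exact hg

end Cfsg.Agent.Lib.Helper69.MaxCent
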