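import Cfsg.Agent.Lib.Helper69.MaxCent.Basic

/-! # Centerless version of the hypothesis of S3905 -/

set_option autoImplicit false

namespace Cfsg.Agent.Lib.Helper69.MaxCent

/-- centerless version of the hypothesis -/
structure CL {G : Type*} [Group G] (N : Subgroup G) : Prop where
  coatom : ∀ x ∈ N, x ≠ 1 → IsCoatom (cz x)
  triv : zN N = ⊥

/-- no nontrivial abelian normal subgroup of `G` inside `N` -/
def NoAb {G : Type*} [Group G] (N : Subgroup G) : Prop :=
  ∀ B : Subgroup G, B.Normal → B ≤ N → (∀ a ∈ B, ∀ b ∈ B, Commute a b) → B = ⊥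

variable {G : Type*} [Group G] {N : Subgroup G}

theorem CL.nz (h : CL N) {x : G} (hx : x ∈ N) (hx1 : x ≠ 1) : NZ N x := by
  refine nz_iff.mpr ⟨hx, ?_⟩
  rw [h.triv, Subgroup.mem_bot]
  exact hx1

theorem CL.hyp (h : CL N) : Hyp N := fun x hx hxZ =>
  h.coatom x hx (NZ.ne_one ⟨hx, hxZ⟩)

end Cfsg.Agent.Lib.Helper69.MaxCent
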