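import Cfsg.Agent.Lib.Helper69.MaxCent.CL
import Cfsg.Prelude.Def_Solvable

/-! # S3905, piece FIN: recognizing a Frobenius group with complement of prime order -/

set_option autoImplicit false

namespace Cfsg.Agent.Lib.Helper69.MaxCent

open scoped Pointwise

theorem mem_conj_smul {X : Type*} [Group X] (Q : Subgroup X) (g x : X) :
    x ∈ MulAut.conj g • Q ↔ ∃ u ∈ Q, x = g * u * g⁻¹ := by
  rw [Subgroup.mem_smul_pointwise_iff_exists]
  constructor
  · rintro ⟨u, hu, rfl⟩
    exact ⟨u, hu, by simp [MulAut.smul_def]⟩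
  · rintro ⟨u, hu, rfl⟩
    exact ⟨u, hu, by simp [MulAut.smul_def]⟩

theorem fin {X : Type*} [Group X] [Finite X] (K : Subgroup X) [hKn : K.Normal] (hK : K ≠ ⊥)
    (hidx : K.index.Prime) (hfix : ∀ s : X, s ∉ K → ∀ v ∈ K, Commute s v → v = 1) :
    ∃ Q : Subgroup X, Cfsg.IsFrobeniusComplement Q ∧ (Nat.card ↥Q).Prime ∧
      (K : Set X) = Cfsg.frobeniusKernel Q := by
  have hKtop : K ≠ ⊤ := by
    intro h
    rw [h, Subgroup.index_top] at hidx
    exact Nat.not_prime_one hidx
  obtain ⟨s, hs⟩ : ∃ s : X, s ∉ K := by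
    by_contra hcon
    push Not at hcon
    exact hKtop ((Subgroup.eq_top_iff' K).mpr hcon)
  have hs1 : s ≠ 1 := fun h => hs (h ▸ K.one_mem)
  have hsr : s ^ K.index = 1 :=
    hfix s hs _ (Subgroup.pow_index_mem K s) ((Commute.refl s).pow_right _)
  have hord : orderOf s = K.index := by
    rcases (Nat.dvd_prime hidx).mp (orderOf_dvd_of_pow_eq_one hsr) with h1 | h1
    · exact absurd (orderOf_eq_one_iff.mp h1) hs1
    · exact h1
  have hcs : ∀ u ∈ Subgroup.zpowers s, Commute s u := by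
    intro u hu
    obtain ⟨i, rfl⟩ := Subgroup.mem_zpowers_iff.mp hu
    exact (Commute.refl s).zpow_right i
  have hcc : ∀ u ∈ Subgroup.zpowers s, ∀ a ∈ Subgroup.zpowers s, Commute a u := by
    intro u hu a ha
    obtain ⟨i, rfl⟩ := Subgroup.mem_zpowers_iff.mp ha
    exact (hcs u hu).zpow_left i
  have F1 : ∀ u ∈ Subgroup.zpowers s, u ∈ K → u = 1 := fun u hu huK => hfix s hs u huK (hcs u hu)
  have F2 : ∀ g : X, ∃ k ∈ K, ∃ u ∈ Subgroup.zpowers s, g = k * u := by
    intro g
    have hcard : Nat.card (X ⧸ K) = K.index := rfl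
    have : Fact K.index.Prime := ⟨hidx⟩
    have hms : (QuotientGroup.mk s : X ⧸ K) ≠ 1 := fun h => hs ((QuotientGroup.eq_one_iff s).mp h)
    have hg : (QuotientGroup.mk g : X ⧸ K) ∈ Subgroup.zpowers (QuotientGroup.mk s : X ⧸ K) :=
      mem_zpowers_of_prime_card hcard hms
    obtain ⟨i, hi⟩ := Subgroup.mem_zpowers_iff.mp hg
    refine ⟨g * (s ^ i)⁻¹, ?_, s ^ i, Subgroup.zpow_mem_zpowers s i, by group⟩
    rw [← QuotientGroup.eq_one_iff, QuotientGroup.mk_mul, QuotientGroup.mk_inv,
      QuotientGroup.mk_zpow, hi, mul_inv_cancel]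
  refine ⟨Subgroup.zpowers s, ⟨?_, ?_, ?_⟩, ?_, ?_⟩
  · intro h
    apply hs1
    have := Subgroup.mem_zpowers s
    rw [h, Subgroup.mem_bot] at this
    exact this
  · intro h
    apply hK
    rw [eq_bot_iff]
    intro k hk
    exact Subgroup.mem_bot.mpr (F1 k (h ▸ Subgroup.mem_top k) hk)
  · intro g hg
    rw [eq_bot_iff]
    intro y hy
    obtain ⟨hy1, hy2⟩ := Subgroup.mem_inf.mp hy
    rw [mem_conj_smul] at hy2
    obtain ⟨u, hu, hyu⟩ := hy2
    obtain ⟨k, hk, a, ha, rfl⟩ := F2 g
    have hau : a * u = u * a := (hcc u hu a ha).eq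
    have hy' : y = k * u * k⁻¹ := by
      rw [hyu]
      calc k * a * u * (k * a)⁻¹ = k * (a * u) * a⁻¹ * k⁻¹ := by group
        _ = k * u * k⁻¹ := by rw [hau]; group
    have h1 : y * u⁻¹ = 1 := by
      apply F1 _ (Subgroup.mul_mem _ hy1 (Subgroup.inv_mem _ hu))
      have : y * u⁻¹ = k * (u * k⁻¹ * u⁻¹) := by rw [hy']; group
      rw [this]
      exact K.mul_mem hk (hKn.conj_mem _ (K.inv_mem hk) u)
    have hyu' : y = u := mul_inv_eq_one.mp h1
    rw [Subgroup.mem_bot]
    by_cases huK : u ∈ K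
    · rw [hyu']; exact F1 u hu huK
    · exfalso
      have hcomm : Commute u k := by
        rw [commute_iff_eq]
        have : k * u * k⁻¹ = u := by rw [← hy', hyu']
        calc u * k = (k * u * k⁻¹) * k := by rw [this]
          _ = k * u := by group
      have hk1 := hfix u huK k hk hcomm
      apply hg
      rw [hk1, one_mul]
      exact ha
  · rw [Nat.card_zpowers, hord]
    exact hidx
  · ext x
    simp only [SetLike.mem_coe, Cfsg.frobeniusKernel, Set.mem_ofPred_eq]
    constructor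
    · intro hx
      by_cases hx1 : x = 1
      · exact Or.inl hx1
      · right
        intro g hg
        rw [mem_conj_smul] at hg
        obtain ⟨u, hu, rfl⟩ := hg
        have huK : u ∈ K := by
          have := hKn.conj_mem _ hx g⁻¹
          have h2 : g⁻¹ * (g * u * g⁻¹) * g⁻¹⁻¹ = u := by group
          rwa [h2] at this
        apply hx1
        rw [F1 u hu huK]
        group
    · rintro (rfl | hx)
      · exact K.one_mem
      · by_contra hxK
        obtain ⟨k, hk, u, hu, rfl⟩ := F2 x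
        have huK : u ∉ K := fun huK => hxK (K.mul_mem hk huK)
        let f : ↥K → ↥K := fun k' => ⟨k'.1 * (u * k'.1⁻¹ * u⁻¹),
          K.mul_mem k'.2 (hKn.conj_mem _ (K.inv_mem k'.2) u)⟩
        have hinj : Function.Injective f := by
          intro k1 k2 h12
          have h12' : k1.1 * (u * k1.1⁻¹ * u⁻¹) = k2.1 * (u * k2.1⁻¹ * u⁻¹) :=
            congrArg Subtype.val h12
          have hcomm : Commute u (k2.1⁻¹ * k1.1) := by
            rw [commute_iff_eq]
            calc u * (k2.1⁻¹ * k1.1)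
                = k2.1⁻¹ * (k2.1 * (u * k2.1⁻¹ * u⁻¹)) * u * k1.1 := by group
              _ = k2.1⁻¹ * (k1.1 * (u * k1.1⁻¹ * u⁻¹)) * u * k1.1 := by rw [h12']
              _ = k2.1⁻¹ * k1.1 * u := by group
          have := hfix u huK _ (K.mul_mem (K.inv_mem k2.2) k1.2) hcomm
          apply Subtype.ext
          exact (inv_mul_eq_one.mp this).symm
        obtain ⟨k', hk'⟩ := (Finite.injective_iff_surjective.mp hinj) ⟨k, hk⟩
        have hk'' : k'.1 * (u * k'.1⁻¹ * u⁻¹) = k := congrArg Subtype.val hk'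
        apply hx k'.1
        rw [mem_conj_smul]
        refine ⟨u, hu, ?_⟩
        rw [← hk'']
        group

end Cfsg.Agent.Lib.Helper69.MaxCent
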