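import Cfsg.Agent.Lib.Helper69.MaxCent.CL

/-! # S3905, piece S3a: `N` acts fixed point freely on a minimal normal subgroup -/

set_option autoImplicit false

namespace Cfsg.Agent.Lib.Helper69.MaxCent

variable {G : Type*} [Group G] [Finite G] {N : Subgroup G}

/-- (FP) -/
theorem exists_fixed {p : ℕ} (hp : p.Prime) (V : Subgroup G) [hVn : V.Normal] (hV : V ≠ ⊥)
    (hexp : ∀ a ∈ V, a ^ p = 1) {s : G} (hs : ∃ k, orderOf s = p ^ k) :
    ∃ v ∈ V, v ≠ 1 ∧ Commute s v := by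
  have : Fact p.Prime := ⟨hp⟩
  obtain ⟨k, hk⟩ := hs
  have hz : IsPGroup p (Subgroup.zpowers s) := by
    apply IsPGroup.of_card (n := k)
    rw [Nat.card_zpowers, hk]
  let act : MulAction (Subgroup.zpowers s) ↥V :=
    { smul := fun g v => ⟨g.1 * v.1 * g.1⁻¹, hVn.conj_mem v.1 v.2 g.1⟩
      one_smul := fun v => Subtype.ext (by change (1:G) * v.1 * (1:G)⁻¹ = v.1; group)
      mul_smul := fun g h v => Subtype.ext (by
        change (g.1 * h.1) * v.1 * (g.1 * h.1)⁻¹ = g.1 * (h.1 * v.1 * h.1⁻¹) * g.1⁻¹; group) }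
  have hdvd : p ∣ Nat.card ↥V := by
    obtain ⟨w, hw⟩ := Subgroup.ne_bot_iff_exists_ne_one.mp hV
    have h1 : orderOf w = p := orderOf_eq_prime (Subtype.ext (by simpa using hexp w.1 w.2)) hw
    rw [← h1]; exact orderOf_dvd_natCard _
  have h0 : (1 : ↥V) ∈ MulAction.fixedPoints (Subgroup.zpowers s) ↥V := by
    intro g; apply Subtype.ext; change g.1 * 1 * g.1⁻¹ = 1; group
  obtain ⟨b, hb, hb0⟩ := hz.exists_fixed_point_of_prime_dvd_card_of_fixed_point ↥V hdvd h0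
  refine ⟨b.1, b.2, fun h => hb0 (Subtype.ext h.symm), ?_⟩
  have h3 := congrArg Subtype.val (hb ⟨s, Subgroup.mem_zpowers s⟩)
  change s * b.1 * s⁻¹ = b.1 at h3
  rw [commute_iff_eq]
  calc s * b.1 = (s * b.1 * s⁻¹) * s := by group
    _ = b.1 * s := by rw [h3]

/-- (A) -/
theorem cz_eq_of_pprime (h : CL N) {p : ℕ} (hp : p.Prime) (V : Subgroup G)
    (hVN : V ≤ N) (hexp : ∀ a ∈ V, a ^ p = 1) {t v : G} (ht : t ∈ N) (ht1 : t ≠ 1)
    (htp : (orderOf t).Coprime p) (hv : v ∈ V) (hv1 : v ≠ 1) (hc : Commute t v) :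
    cz t = cz v := by
  have : Fact p.Prime := ⟨hp⟩
  apply h.hyp.cz_eq_of_coprime (h.nz ht ht1) (h.nz (hVN hv) hv1) hc
  rw [orderOf_eq_prime (hexp v hv) hv1]
  exact htp

theorem eq_one_of_ppow_of_coprime {p k : ℕ} {c : G} (h1 : c ^ (p ^ k) = 1)
    (h2 : (orderOf c).Coprime p) : c = 1 := by
  rw [← orderOf_eq_one_iff]
  exact (h2.pow_right k).eq_one_of_dvd (orderOf_dvd_of_pow_eq_one h1)

/-- `N` is not a `p`-group -/
theorem exists_pprime (h : CL N) {p : ℕ} (hp : p.Prime) (hN : N ≠ ⊥) :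
    ∃ y ∈ N, y ≠ 1 ∧ (orderOf y).Coprime p := by
  have : Fact p.Prime := ⟨hp⟩
  by_contra hcon
  push Not at hcon
  have hpg : IsPGroup p ↥N := by
    intro n
    obtain ⟨i, j, hij, ⟨k, hk⟩, hj⟩ := Cfsg.Agent.S4262.exists_parts p hp n.1
    have hj1 : n.1 ^ j = 1 := by
      by_contra hne
      exact hcon _ (N.zpow_mem n.2 j) hne hj
    refine ⟨k, Subtype.ext ?_⟩
    show n.1 ^ (p ^ k) = 1
    rw [hj1, mul_one] at hij
    rw [hij, ← hk, pow_orderOf_eq_one]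
  have hnt : Nontrivial ↥N := (Subgroup.nontrivial_iff_ne_bot N).mpr hN
  have := hpg.center_nontrivial
  obtain ⟨c, hc⟩ := exists_ne (1 : Subgroup.center ↥N)
  apply hc
  have hz : c.1.1 ∈ zN N := by
    rw [mem_zN]
    refine ⟨c.1.2, fun n hn => ?_⟩
    exact (congrArg Subtype.val (Subgroup.mem_center_iff.mp c.2 ⟨n, hn⟩)).symm
  rw [h.triv, Subgroup.mem_bot] at hz
  exact Subtype.ext (Subtype.ext hz)

variable [N.Normal]

/-- (B) -/
theorem pelt_commute (h : CL N) {p : ℕ} (hp : p.Prime) (V : Subgroup G) [hVn : V.Normal]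
    (hVN : V ≤ N) (hV : V ≠ ⊥) (hab : ∀ a ∈ V, ∀ b ∈ V, Commute a b) (hexp : ∀ a ∈ V, a ^ p = 1)
    {s : G} (hs : s ∈ N) (hsp : ∃ k, orderOf s = p ^ k) : ∀ v ∈ V, Commute s v := by
  obtain ⟨v, hv, hv1, hsv⟩ := exists_fixed hp V hV hexp hsp
  by_cases hcase : ∃ t ∈ N, t ≠ 1 ∧ (orderOf t).Coprime p ∧ ∃ v' ∈ V, v' ≠ 1 ∧ Commute t v'
  · obtain ⟨t, ht, ht1, htp, v', hv', hv'1, htv'⟩ := hcase
    have e1 := cz_eq_of_pprime h hp V hVN hexp ht ht1 htp hv' hv'1 htv'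
    have hVt : ∀ w ∈ V, Commute t w := by
      intro w hw
      have : w ∈ cz t := by rw [e1]; exact mem_cz.mpr (hab w hw v' hv')
      exact (mem_cz.mp this).symm
    intro w hw
    by_cases hw1 : w = 1
    · rw [hw1]; exact Commute.one_right s
    · have e2 := cz_eq_of_pprime h hp V hVN hexp ht ht1 htp hw hw1 (hVt w hw)
      have e3 := cz_eq_of_pprime h hp V hVN hexp ht ht1 htp hv hv1 (hVt v hv)
      have : s ∈ cz w := by rw [← e2, e3]; exact mem_cz.mpr hsv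
      exact mem_cz.mp this
  · push Not at hcase
    have hN : N ≠ ⊥ := fun hN => hV (eq_bot_iff.mpr (hN ▸ hVN))
    obtain ⟨y, hy, hy1, hyp⟩ := exists_pprime h hp hN
    have hVy : ¬ V ≤ cz y := fun hle => hcase y hy hy1 hyp v hv hv1 (mem_cz.mp (hle hv)).symm
    obtain ⟨v₁, hv₁, c, hc, hsc⟩ := h.hyp.factor (h.nz hy hy1) V hVN hVy s hs
    obtain ⟨i, j, hij, hi, hj⟩ := Cfsg.Agent.S4262.exists_parts p hp c
    have hi1 : c ^ i = 1 := by
      by_contra hne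
      obtain ⟨v', hv', hv'1, hcv'⟩ := exists_fixed hp V hV hexp hi
      obtain ⟨k, hk⟩ := hi
      have e1 : cz (c ^ i) = cz y := by
        apply h.hyp.cz_eq_of_coprime (h.nz (N.zpow_mem hc.1 i) hne) (h.nz hy hy1)
          ((mem_cz.mp hc.2).zpow_left i)
        rw [hk]
        exact (hyp.pow_right k).symm
      have : v' ∈ cz y := by rw [← e1]; exact mem_cz.mpr hcv'.symm
      exact hcase y hy hy1 hyp v' hv' hv'1 (mem_cz.mp this).symm
    rw [hi1, one_mul] at hij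
    have hcp : (orderOf c).Coprime p := by rw [hij]; exact hj
    obtain ⟨k, hk⟩ := hsp
    have hcV : c ^ (p ^ k) ∈ V := by
      rw [← QuotientGroup.eq_one_iff]
      show QuotientGroup.mk' V (c ^ (p ^ k)) = 1
      have hcs : QuotientGroup.mk' V c = QuotientGroup.mk' V s := by
        rw [hsc, map_mul]
        have : QuotientGroup.mk' V v₁ = 1 := (QuotientGroup.eq_one_iff _).mpr hv₁
        rw [this, one_mul]
      rw [map_pow, hcs, ← map_pow, ← hk, pow_orderOf_eq_one, map_one]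
    have hc1 : c = 1 := by
      apply eq_one_of_ppow_of_coprime (p := p) (k := k + 1) _ hcp
      rw [pow_succ, pow_mul]
      exact hexp _ hcV
    rw [hc1, mul_one] at hsc
    intro w hw
    rw [hsc]
    exact hab v₁ hv₁ w hw

/-- the `p'`-part of an element not centralizing `V` -/
theorem exists_pprime_part (h : CL N) {p : ℕ} (hp : p.Prime) (V : Subgroup G) [hVn : V.Normal]
    (hVN : V ≤ N) (hV : V ≠ ⊥) (hab : ∀ a ∈ V, ∀ b ∈ V, Commute a b) (hexp : ∀ a ∈ V, a ^ p = 1)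
    {s : G} (hs : s ∈ N) (hsV : ¬ ∀ v ∈ V, Commute s v) :
    ∃ j : ℤ, (orderOf (s ^ j)).Coprime p ∧ s ^ j ≠ 1 ∧ ¬ ∀ v ∈ V, Commute (s ^ j) v := by
  obtain ⟨i, j, hij, hi, hj⟩ := Cfsg.Agent.S4262.exists_parts p hp s
  have h1 := pelt_commute h hp V hVN hV hab hexp (N.zpow_mem hs i) hi
  have h2 : ¬ ∀ v ∈ V, Commute (s ^ j) v := by
    intro h2
    apply hsV
    intro v hv
    rw [hij]
    exact (h1 v hv).mul_left (h2 v hv)
  refine ⟨j, hj, ?_, h2⟩
  intro h3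
  apply h2
  intro v _
  rw [h3]
  exact Commute.one_left v

/-- (C) -/
theorem fixed_trivial (h : CL N) {p : ℕ} (hp : p.Prime) (V : Subgroup G) [hVn : V.Normal]
    (hVN : V ≤ N) (hV : V ≠ ⊥) (hab : ∀ a ∈ V, ∀ b ∈ V, Commute a b) (hexp : ∀ a ∈ V, a ^ p = 1)
    {s : G} (hs : s ∈ N) (hsV : ¬ ∀ v ∈ V, Commute s v) : ∀ v ∈ V, Commute s v → v = 1 := by
  intro v hv hsv
  by_contra hv1
  obtain ⟨j, hj, hj1, hjV⟩ := exists_pprime_part h hp V hVN hV hab hexp hs hsV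
  have e1 := cz_eq_of_pprime h hp V hVN hexp (N.zpow_mem hs j) hj1 hj hv hv1 (hsv.zpow_left j)
  apply hjV
  intro w hw
  have : w ∈ cz (s ^ j) := by rw [e1]; exact mem_cz.mpr (hab w hw v hv)
  exact (mem_cz.mp this).symm

/-- (D) -/
theorem mem_of_commute (h : CL N) {p : ℕ} (hp : p.Prime) (V : Subgroup G) [hVn : V.Normal]
    (hVN : V ≤ N) (hV : V ≠ ⊥) (hab : ∀ a ∈ V, ∀ b ∈ V, Commute a b) (hexp : ∀ a ∈ V, a ^ p = 1)
    {k : G} (hk : k ∈ N) (hkV : ∀ v ∈ V, Commute k v) : k ∈ V := by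
  have : Fact p.Prime := ⟨hp⟩
  obtain ⟨v, hv, hv1⟩ : ∃ v : G, v ∈ V ∧ v ≠ 1 := by
    obtain ⟨v, hv⟩ := Subgroup.ne_bot_iff_exists_ne_one.mp hV
    exact ⟨v.1, v.2, fun h => hv (Subtype.ext h)⟩
  obtain ⟨s, hs, hsV⟩ : ∃ s ∈ N, ¬ ∀ v ∈ V, Commute s v := by
    by_contra hcon
    push Not at hcon
    apply hV
    rw [eq_bot_iff, ← h.triv]
    intro w hw
    exact mem_zN.mpr ⟨hVN hw, fun n hn => (hcon n hn w hw).symm⟩
  obtain ⟨j, hj, hj1, hjV⟩ := exists_pprime_part h hp V hVN hV hab hexp hs hsV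
  set t := s ^ j with ht
  have htN : t ∈ N := N.zpow_mem hs j
  have hfix := fixed_trivial h hp V hVN hV hab hexp htN hjV
  have hVt : ¬ V ≤ cz t := fun hle => hv1 (hfix v hv (mem_cz.mp (hle hv)).symm)
  obtain ⟨v₀, hv₀, c, hc, hkc⟩ := h.hyp.factor (h.nz htN hj1) V hVN hVt k hk
  have hcV : ∀ w ∈ V, Commute c w := by
    intro w hw
    have : c = v₀⁻¹ * k := by rw [hkc]; group
    rw [this]
    exact ((hab v₀ hv₀ w hw).inv_left).mul_left (hkV w hw)
  by_cases hc1 : c = 1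
  · rw [hkc, hc1, mul_one]; exact hv₀
  · exfalso
    obtain ⟨r, i, hr, hnz, ⟨e, he⟩, -⟩ := h.hyp.exists_primary c (h.nz hc.1 hc1)
    have hct : Commute (c ^ i) t := (mem_cz.mp hc.2).zpow_left i
    have hcv : Commute (c ^ i) v := (hcV v hv).zpow_left i
    by_cases hrp : r = p
    · have e1 : cz (c ^ i) = cz t := by
        apply h.hyp.cz_eq_of_coprime hnz (h.nz htN hj1) hct
        rw [he, hrp]
        exact (hj.pow_right e).symm
      have : v ∈ cz t := by rw [← e1]; exact mem_cz.mpr hcv.symm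
      exact hv1 (hfix v hv (mem_cz.mp this).symm)
    · have e1 : cz (c ^ i) = cz v := by
        apply h.hyp.cz_eq_of_coprime hnz (h.nz (hVN hv) hv1) hcv
        rw [he, orderOf_eq_prime (hexp v hv) hv1]
        exact Nat.Coprime.pow_left e ((Nat.coprime_primes hr hp).mpr hrp)
      have : t ∈ cz v := by rw [← e1]; exact mem_cz.mpr hct.symm
      exact hv1 (hfix v hv (mem_cz.mp this))

theorem fixed_point_free (h : CL N) {p : ℕ} (hp : p.Prime) (V : Subgroup G) [V.Normal]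
    (hVN : V ≤ N) (hV : V ≠ ⊥) (hab : ∀ a ∈ V, ∀ b ∈ V, Commute a b) (hexp : ∀ a ∈ V, a ^ p = 1) :
    ∀ s ∈ N, s ∉ V → ∀ v ∈ V, Commute s v → v = 1 := by
  intro s hs hsV
  exact fixed_trivial h hp V hVN hV hab hexp hs
    (fun hc => hsV (mem_of_commute h hp V hVN hV hab hexp hs hc))

end Cfsg.Agent.Lib.Helper69.MaxCent
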