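import Cfsg.Agent.Lib.Helper69.MaxCent.PG
import Cfsg.Agent.Lib.Helper69.MaxCent.S3a

/-! # S3905, piece S1: an element of `N ∖ Z(N)` central modulo `Z(N)` forces `N / Z(N)` to be a
`p`-group -/

set_option autoImplicit false

namespace Cfsg.Agent.Lib.Helper69.MaxCent

variable {G : Type*} [Group G] [Finite G] {N : Subgroup G} [hNn : N.Normal]

theorem s1_primary (h : Hyp N) {x : G} (hx : NZ N x) (hc : ∀ g : G, g * x * g⁻¹ * x⁻¹ ∈ zN N)
    {p e : ℕ} (hp : p.Prime) (hk : orderOf x = p ^ e) :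
    ∀ n ∈ N, ∃ k : ℕ, n ^ (p ^ k) ∈ zN N := by
  -- (i)
  have hi : ∀ n ∈ N, n ^ (p ^ e) ∈ cz x := by
    intro n hn
    apply mem_cz.mpr
    apply Commute.symm
    apply commute_pow_of_pow_mem (N := N) hx.1 hn
    · have : x * n * x⁻¹ * n⁻¹ = (n * x * n⁻¹ * x⁻¹)⁻¹ := by group
      rw [this]; exact Subgroup.inv_mem _ (hc n)
    · rw [← hk, pow_orderOf_eq_one]; exact Subgroup.one_mem _
  -- (ii)
  have hii : ∀ t ∈ N, (orderOf t).Coprime p → t ∈ cz x := by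
    intro t ht htp
    obtain ⟨m, hm⟩ := exists_pow_eq_self_of_coprime (htp.pow_right e).symm
    rw [← hm]
    exact Subgroup.pow_mem _ (hi t ht) m
  -- (iii)
  have hiii : ∀ c ∈ N ⊓ cz x, ∀ g : G, g * c * g⁻¹ ∈ N ⊓ cz x := by
    intro c hcC g
    refine ⟨hNn.conj_mem c hcC.1 g, mem_cz.mpr ?_⟩
    have hz := hc g⁻¹
    set z := g⁻¹ * x * g⁻¹⁻¹ * x⁻¹ with hzdef
    have h1 : Commute c z := ((mem_zN.mp hz).2 c hcC.1).symm
    have h2 : Commute c (z * x) := h1.mul_right (mem_cz.mp hcC.2)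
    have h3 : z * x = g⁻¹ * x * g := by rw [hzdef]; group
    rw [h3] at h2
    rw [commute_iff_eq]
    calc g * c * g⁻¹ * x = g * (c * (g⁻¹ * x * g)) * g⁻¹ := by group
      _ = g * ((g⁻¹ * x * g) * c) * g⁻¹ := by rw [h2.eq]
      _ = x * (g * c * g⁻¹) := by group
  by_contra hcon
  push Not at hcon
  obtain ⟨n, hn, hnk⟩ := hcon
  obtain ⟨i, j, hij, ⟨k, hik⟩, hj⟩ := Cfsg.Agent.S4262.exists_parts p hp n
  set t := n ^ j with ht
  have htN : t ∈ N := N.zpow_mem hn j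
  have htZ : t ∉ zN N := by
    intro htZ
    apply hnk k
    have hcomm : Commute (n ^ i) (n ^ j) := ((Commute.refl n).zpow_left i).zpow_right j
    rw [hij, hcomm.mul_pow, ← hik, pow_orderOf_eq_one, one_mul]
    exact Subgroup.pow_mem _ htZ _
  have htz : NZ N t := nz_iff.mpr ⟨htN, htZ⟩
  have htx : t ∈ cz x := hii t htN hj
  have e1 : cz x = cz t := by
    apply h.cz_eq_of_coprime hx htz (mem_cz.mp htx).symm
    rw [hk]; exact (hj.pow_right e).symm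
  obtain ⟨q, i', hq, hnz', ⟨k', hk'⟩, e2⟩ := h.exists_primary t htz
  have hqp : q ≠ p := by
    rintro rfl
    have hd : orderOf (t ^ i') ∣ orderOf t :=
      orderOf_dvd_of_mem_zpowers (Subgroup.zpow_mem_zpowers t i')
    have h1 : (orderOf (t ^ i')).Coprime q := hj.coprime_dvd_left hd
    apply hnz'.ne_one
    apply eq_one_of_ppow_of_coprime (p := q) (k := k') _ h1
    rw [← hk', pow_orderOf_eq_one]
  have e3 : cz (t ^ i') = cz x := by rw [e2, e1]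
  -- `C` is abelian
  have hCab : ∀ a ∈ N ⊓ cz x, ∀ b ∈ N ⊓ cz x, Commute a b := by
    intro a ha b hb
    obtain ⟨i₁, j₁, hij₁, ⟨k₁, hk₁⟩, hj₁⟩ := Cfsg.Agent.S4262.exists_parts p hp a
    rw [hij₁]
    apply Commute.mul_left
    · have ha' : a ^ i₁ ∈ N ⊓ cz (t ^ i') := by rw [e3]; exact Subgroup.zpow_mem _ ha i₁
      have hb' : b ∈ N ⊓ cz (t ^ i') := by rw [e3]; exact hb
      apply h.pprime_central hnz' ⟨k', hk'⟩ ha' _ hb'
      rw [hk₁]
      exact Nat.Coprime.pow_left k₁ ((Nat.coprime_primes hp hq).mpr hqp.symm)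
    · exact h.pprime_central hx ⟨e, hk⟩ (Subgroup.zpow_mem _ ha j₁) hj₁ hb
  let L : Subgroup G :=
    { carrier := {y | y ∈ N ⊓ cz x ∧ (orderOf y).Coprime p}
      one_mem' := ⟨Subgroup.one_mem _, by rw [orderOf_one]; exact Nat.coprime_one_left p⟩
      mul_mem' := by
        rintro a b ⟨ha, hap⟩ ⟨hb, hbp⟩
        refine ⟨Subgroup.mul_mem _ ha hb, ?_⟩
        exact Nat.Coprime.coprime_dvd_left (hCab a ha b hb).orderOf_mul_dvd_mul_orderOf
          (Nat.Coprime.mul_left hap hbp)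
      inv_mem' := by
        rintro a ⟨ha, hap⟩
        exact ⟨Subgroup.inv_mem _ ha, by rw [orderOf_inv]; exact hap⟩ }
  have hL : ∀ y, y ∈ L ↔ y ∈ N ⊓ cz x ∧ (orderOf y).Coprime p := fun y => Iff.rfl
  have hLn : L.Normal := by
    constructor
    intro y hy g
    rw [hL] at hy ⊢
    refine ⟨hiii y hy.1 g, ?_⟩
    have : orderOf (g * y * g⁻¹) = orderOf y := (MulAut.conj g).orderOf_eq y
    rw [this]; exact hy.2
  have hLN : L ≤ N := fun y hy => ((hL y).mp hy).1.1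
  have htL : t ∈ L := (hL t).mpr ⟨⟨htN, htx⟩, hj⟩
  obtain ⟨n₀, hn₀, hn₀x⟩ := SetLike.not_le_iff_exists.mp hx.not_le
  obtain ⟨i₀, j₀, hij₀, ⟨k₀, hk₀⟩, hj₀⟩ := Cfsg.Agent.S4262.exists_parts p hp n₀
  set g := n₀ ^ i₀ with hg
  have hgN : g ∈ N := N.zpow_mem hn₀ i₀
  have hgx : g ∉ cz x := by
    intro hgx
    apply hn₀x
    rw [hij₀]
    exact Subgroup.mul_mem _ hgx (hii _ (N.zpow_mem hn₀ j₀) hj₀)
  have hgz : NZ N g := nz_iff.mpr ⟨hgN, fun hz => hgx (zN_le_cz hx.1 hz)⟩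
  have hLg : ¬ L ≤ cz g := by
    intro hle
    apply hgx
    have e4 : cz g = cz t := by
      apply h.cz_eq_of_coprime hgz htz (mem_cz.mp (hle htL)).symm
      rw [hk₀]; exact (hj.pow_right k₀).symm
    rw [e1, ← e4]
    exact self_mem_cz g
  obtain ⟨l, hl, c, hcg, hxlc⟩ := h.factor hgz L hLN hLg x hx.1
  have hl' := (hL l).mp hl
  have hlx : Commute l x := mem_cz.mp hl'.1.2
  have hc' : c = l⁻¹ * x := by rw [hxlc]; group
  have h5 : c ^ orderOf l = x ^ orderOf l := by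
    rw [hc', hlx.inv_left.mul_pow, inv_pow, pow_orderOf_eq_one, inv_one, one_mul]
  obtain ⟨m, hm⟩ := exists_pow_eq_self_of_coprime (x := x) (n := orderOf l)
    (by rw [hk]; exact hl'.2.pow_right e)
  apply hgx
  apply mem_cz.mpr
  rw [← hm, ← h5]
  exact (((mem_cz.mp hcg.2).symm.pow_right _).pow_right _)

theorem s1 (h : Hyp N) {x : G} (hx : NZ N x) (hc : ∀ g : G, g * x * g⁻¹ * x⁻¹ ∈ zN N) :
    ∃ p : ℕ, p.Prime ∧ ∀ n ∈ N, ∃ k : ℕ, n ^ (p ^ k) ∈ zN N := by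
  obtain ⟨p, i, hp, hnz, ⟨e, he⟩, -⟩ := h.exists_primary x hx
  refine ⟨p, hp, s1_primary h hnz ?_ hp he⟩
  intro g
  rw [← commute_mk_iff, map_zpow]
  exact ((commute_mk_iff _ _ _).mpr (hc g)).zpow_right i

end Cfsg.Agent.Lib.Helper69.MaxCent
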