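import Cfsg.Agent.Lib.Helper69.MaxCent.CL

/-! # S3905, piece S3b: the complement has prime order -/

set_option autoImplicit false

namespace Cfsg.Agent.Lib.Helper69.MaxCent

variable {G : Type*} [Group G] [Finite G] {N : Subgroup G} [N.Normal]

theorem le_sup_zpowers (h : CL N) (V : Subgroup G) [hVn : V.Normal]
    (hVN : V ≤ N) (hV : V ≠ ⊥)
    (hfix : ∀ s ∈ N, s ∉ V → ∀ v ∈ V, Commute s v → v = 1) {t : G} (ht : t ∈ N) (htV : t ∉ V) :
    N ≤ V ⊔ Subgroup.zpowers t := by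
  obtain ⟨v, hv, hv1⟩ : ∃ v : G, v ∈ V ∧ v ≠ 1 := by
    obtain ⟨v, hv⟩ := Subgroup.ne_bot_iff_exists_ne_one.mp hV
    exact ⟨v.1, v.2, fun h => hv (Subtype.ext h)⟩
  have ht1 : t ≠ 1 := fun h1 => htV (h1 ▸ V.one_mem)
  have htz : NZ N t := h.nz ht ht1
  have hvz : NZ N v := h.nz (hVN hv) hv1
  have hVt : ¬ V ≤ cz t := fun hle => hv1 (hfix t ht htV v hv (mem_cz.mp (hle hv)).symm)
  have hconj : ∀ g : G, g * t * g⁻¹ ∈ V ⊔ Subgroup.zpowers t := by
    intro g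
    obtain ⟨n, hn, hgn⟩ := h.hyp.conj_eq htz g
    obtain ⟨v', hv', c, hc, rfl⟩ := h.hyp.factor htz V hVN hVt n hn
    have hc' : c * t = t * c := (mem_cz.mp hc.2).eq
    have : g * t * g⁻¹ = v' * (t * v'⁻¹ * t⁻¹) * t := by
      rw [hgn]
      calc v' * c * t * (v' * c)⁻¹ = v' * (c * t) * c⁻¹ * v'⁻¹ := by group
        _ = v' * (t * v'⁻¹ * t⁻¹) * t := by rw [hc']; group
    rw [this]
    exact Subgroup.mul_mem _
      ((le_sup_left : V ≤ V ⊔ Subgroup.zpowers t)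
        (V.mul_mem hv' (hVn.conj_mem _ (V.inv_mem hv') t)))
      ((le_sup_right : Subgroup.zpowers t ≤ V ⊔ Subgroup.zpowers t) (Subgroup.mem_zpowers t))
  have hLn : (V ⊔ Subgroup.zpowers t).Normal := by
    constructor
    intro l hl g
    have hle : (V ⊔ Subgroup.zpowers t).map (MulAut.conj g).toMonoidHom ≤
        V ⊔ Subgroup.zpowers t := by
      rw [Subgroup.map_sup, sup_le_iff]
      constructor
      · rintro _ ⟨w, hw, rfl⟩
        exact (le_sup_left : V ≤ V ⊔ Subgroup.zpowers t) (hVn.conj_mem w hw g)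
      · rw [MonoidHom.map_zpowers, Subgroup.zpowers_le]
        exact hconj g
    exact hle ⟨l, hl, rfl⟩
  have hLN : V ⊔ Subgroup.zpowers t ≤ N := sup_le hVN (Subgroup.zpowers_le.mpr ht)
  have hLv : ¬ V ⊔ Subgroup.zpowers t ≤ cz v := fun hle =>
    hv1 (hfix t ht htV v hv (mem_cz.mp (hle
      ((le_sup_right : Subgroup.zpowers t ≤ V ⊔ Subgroup.zpowers t) (Subgroup.mem_zpowers t)))))
  intro n hn
  obtain ⟨l, hl, c, hc, rfl⟩ := h.hyp.factor hvz _ hLN hLv n hn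
  have hcV : c ∈ V := by
    by_contra hcV
    exact hv1 (hfix c hc.1 hcV v hv (mem_cz.mp hc.2))
  exact Subgroup.mul_mem _ hl ((le_sup_left : V ≤ V ⊔ Subgroup.zpowers t) hcV)

theorem relIndex_prime (h : CL N) (V : Subgroup G) [V.Normal]
    (hVN : V ≤ N) (hV : V ≠ ⊥) (hab : ∀ a ∈ V, ∀ b ∈ V, Commute a b)
    (hfix : ∀ s ∈ N, s ∉ V → ∀ v ∈ V, Commute s v → v = 1) : (V.relIndex N).Prime := by
  have hNV : ¬ N ≤ V := by
    intro hle
    apply hV
    rw [eq_bot_iff, ← h.triv]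
    intro v hv
    exact mem_zN.mpr ⟨hVN hv, fun n hn => hab v hv n (hle hn)⟩
  have hgen : ∀ q : ↥N ⧸ V.subgroupOf N, q ≠ 1 → ∀ q' : ↥N ⧸ V.subgroupOf N,
      q' ∈ Subgroup.zpowers q := by
    intro q hq q'
    obtain ⟨t, rfl⟩ := QuotientGroup.mk_surjective q
    obtain ⟨n, rfl⟩ := QuotientGroup.mk_surjective q'
    have htV : (t : G) ∉ V := by
      intro htV
      apply hq
      exact (QuotientGroup.eq_one_iff t).mpr (Subgroup.mem_subgroupOf.mpr htV)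
    have hn := le_sup_zpowers h V hVN hV hfix t.2 htV n.2
    rw [← SetLike.mem_coe, Subgroup.normal_mul] at hn
    obtain ⟨w, hw, z, hz, hwz⟩ := hn
    obtain ⟨k, rfl⟩ := Subgroup.mem_zpowers_iff.mp hz
    refine Subgroup.mem_zpowers_iff.mpr ⟨k, ?_⟩
    have hn' : n = (⟨w, hVN hw⟩ : ↥N) * t ^ k := by
      apply Subtype.ext
      simp [hwz]
    rw [hn', QuotientGroup.mk_mul, QuotientGroup.mk_zpow]
    have : ((⟨w, hVN hw⟩ : ↥N) : ↥N ⧸ V.subgroupOf N) = 1 :=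
      (QuotientGroup.eq_one_iff _).mpr (Subgroup.mem_subgroupOf.mpr hw)
    rw [this, one_mul]
  have hcard : ∀ q : ↥N ⧸ V.subgroupOf N, q ≠ 1 → orderOf q = Nat.card (↥N ⧸ V.subgroupOf N) :=
    fun q hq => orderOf_eq_card_of_forall_mem_zpowers (hgen q hq)
  have hnt : Nat.card (↥N ⧸ V.subgroupOf N) ≠ 1 := by
    intro h1
    exact hNV (Subgroup.relIndex_eq_one.mp h1)
  obtain ⟨r, hr, hrd⟩ := Nat.exists_prime_and_dvd hnt
  have : Fact r.Prime := ⟨hr⟩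
  obtain ⟨q, hq⟩ := exists_prime_orderOf_dvd_card' r hrd
  have hq1 : q ≠ 1 := by
    rintro rfl
    rw [orderOf_one] at hq
    exact hr.one_lt.ne hq
  show (Nat.card (↥N ⧸ V.subgroupOf N)).Prime
  rw [← hcard q hq1, hq]
  exact hr

end Cfsg.Agent.Lib.Helper69.MaxCent
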