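import Cfsg.Agent.Lib.Helper69.MaxCent.S2d
import Cfsg.Agent.Lib.Helper69.MaxCent.S3b
import Cfsg.Agent.Lib.Helper69.MaxCent.Fin
import Cfsg.Agent.Lib.Helper69.MaxCent.S1
import Cfsg.Prelude.Def_Transfer

/-! # S3905: final steps -/

set_option autoImplicit false

namespace Cfsg.Agent.Lib.Helper69.MaxCent

section core
variable {G : Type*} [Group G] [Finite G] {N : Subgroup G} [N.Normal]

theorem core (h : CL N) (hN : N ≠ ⊥) : ∃ (p : ℕ) (V : Subgroup G), p.Prime ∧ V.Normal ∧ V ≤ N ∧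
    V ≠ ⊥ ∧ (∀ a ∈ V, ∀ b ∈ V, Commute a b) ∧ (∀ a ∈ V, a ^ p = 1) ∧ (V.relIndex N).Prime ∧
    ∀ s ∈ N, s ∉ V → ∀ v ∈ V, Commute s v → v = 1 := by
  have h1 := exists_abelian_normal h hN
  unfold NoAb at h1
  push Not at h1
  obtain ⟨B, hBn, hBN, hBab, hB⟩ := h1
  have hcard : Nat.card B ≠ 1 := by
    intro h'
    exact hB (Subgroup.card_eq_one.mp h')
  obtain ⟨p, hp, hpB⟩ := Nat.exists_prime_and_dvd hcard
  have : Fact p.Prime := ⟨hp⟩
  let V : Subgroup G :=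
    { carrier := {b | b ∈ B ∧ b ^ p = 1}
      mul_mem' := by
        rintro a b ⟨ha, ha'⟩ ⟨hb, hb'⟩
        exact ⟨B.mul_mem ha hb, by rw [(hBab a ha b hb).mul_pow, ha', hb', one_mul]⟩
      one_mem' := ⟨B.one_mem, one_pow p⟩
      inv_mem' := by
        rintro a ⟨ha, ha'⟩
        exact ⟨B.inv_mem ha, by rw [inv_pow, ha', inv_one]⟩ }
  have hVn : V.Normal := by
    constructor
    rintro b ⟨hb, hb'⟩ g
    exact ⟨hBn.conj_mem b hb g, by rw [conj_pow, hb', mul_one, mul_inv_cancel]⟩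
  have hVN : V ≤ N := fun b hb => hBN hb.1
  have hV : V ≠ ⊥ := by
    obtain ⟨b, hb⟩ := exists_prime_orderOf_dvd_card' p hpB
    intro h'
    have hbV : (b : G) ∈ V := by
      refine ⟨b.2, ?_⟩
      rw [← Subgroup.orderOf_coe] at hb
      rw [← hb, pow_orderOf_eq_one]
    rw [h', Subgroup.mem_bot] at hbV
    rw [← Subgroup.orderOf_coe, hbV, orderOf_one] at hb
    exact hp.one_lt.ne hb
  have hab : ∀ a ∈ V, ∀ b ∈ V, Commute a b := fun a ha b hb => hBab a ha.1 b hb.1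
  have hexp : ∀ a ∈ V, a ^ p = 1 := fun a ha => ha.2
  have hfix := fixed_point_free h hp V hVN hV hab hexp
  exact ⟨p, V, hp, hVn, hVN, hV, hab, hexp, relIndex_prime h V hVN hV hab hfix, hfix⟩

end core

theorem final_of_embedding {X Y : Type*} [Group X] [Finite X] [Group Y] (ψ : X →* Y)
    (hψ : Function.Injective ψ) {p : ℕ} (hp : p.Prime) (V : Subgroup Y) [V.Normal]
    (hVr : V ≤ ψ.range) (hV : V ≠ ⊥) (hab : ∀ a ∈ V, ∀ b ∈ V, Commute a b)
    (hexp : ∀ a ∈ V, a ^ p = 1) (hidx : (V.relIndex ψ.range).Prime)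
    (hfix : ∀ s ∈ ψ.range, s ∉ V → ∀ v ∈ V, Commute s v → v = 1) :
    ∃ (Q K : Subgroup X) (p : ℕ), p.Prime ∧ Cfsg.IsFrobeniusComplement Q ∧ (Nat.card ↥Q).Prime ∧
      K.Normal ∧ (K : Set X) = Cfsg.frobeniusKernel Q ∧ Cfsg.IsElementaryAbelian p K := by
  have hKn : (V.comap ψ).Normal := inferInstance
  have hK : V.comap ψ ≠ ⊥ := by
    obtain ⟨v, hv⟩ := Subgroup.ne_bot_iff_exists_ne_one.mp hV
    obtain ⟨x, hx⟩ := hVr v.2
    intro h'
    have hxK : x ∈ V.comap ψ := by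
      rw [Subgroup.mem_comap, hx]
      exact v.2
    rw [h', Subgroup.mem_bot] at hxK
    apply hv
    apply Subtype.ext
    rw [← hx, hxK, map_one]
    rfl
  have hidx' : (V.comap ψ).index.Prime := by
    rw [Subgroup.index_comap]
    exact hidx
  have hfix' : ∀ s : X, s ∉ V.comap ψ → ∀ v ∈ V.comap ψ, Commute s v → v = 1 := by
    intro s hs v hv hc
    apply hψ
    rw [map_one]
    exact hfix (ψ s) ⟨s, rfl⟩ hs (ψ v) hv (hc.map ψ)
  obtain ⟨Q, hQ1, hQ2, hQ3⟩ := fin (V.comap ψ) hK hidx' hfix'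
  refine ⟨Q, V.comap ψ, p, hp, hQ1, hQ2, hKn, hQ3, ⟨⟨⟨?_⟩⟩, ?_⟩⟩
  · intro a b
    apply Subtype.ext
    apply hψ
    simpa using (hab (ψ a) a.2 (ψ b) b.2).eq
  · intro a ha
    apply hψ
    rw [map_pow, map_one]
    exact hexp (ψ a) ha

end Cfsg.Agent.Lib.Helper69.MaxCent
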