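import Cfsg.Agent.Lib.Helper69.MaxCent.Red

/-! # S3905, piece PG: the case where `N / Z(N)` is a `p`-group -/

set_option autoImplicit false

namespace Cfsg.Agent.Lib.Helper69.MaxCent

variable {G : Type*} [Group G]

theorem two_union (N A B : Subgroup G) (h : ∀ n ∈ N, n ∈ A ∨ n ∈ B) : N ≤ A ∨ N ≤ B := by
  by_contra hcon
  push Not at hcon
  obtain ⟨h1, h2⟩ := hcon
  obtain ⟨a, haN, haA⟩ := SetLike.not_le_iff_exists.mp h1
  obtain ⟨b, hbN, hbB⟩ := SetLike.not_le_iff_exists.mp h2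
  have haB : a ∈ B := (h a haN).resolve_left haA
  have hbA : b ∈ A := (h b hbN).resolve_right hbB
  rcases h (a * b) (N.mul_mem haN hbN) with h3 | h3
  · exact haA ((Subgroup.mul_mem_cancel_right A hbA).mp h3)
  · exact hbB ((Subgroup.mul_mem_cancel_left B haB).mp h3)

variable [Finite G] {N : Subgroup G} [N.Normal]

theorem pg_step1 (h : Hyp N) {p : ℕ} (hp : p.Prime)
    (hpg : ∀ n ∈ N, ∃ k : ℕ, n ^ (p ^ k) ∈ zN N) :
    ∀ a ∈ N, ∀ b ∈ N, a * b * a⁻¹ * b⁻¹ ∈ zN N := by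
  have : Fact p.Prime := ⟨hp⟩
  let W : Subgroup G := N ⊓ (Subgroup.centralizer
    ((N.map (QuotientGroup.mk' (zN N)) : Subgroup _) : Set (G ⧸ zN N))).comap
      (QuotientGroup.mk' (zN N))
  have hW : ∀ w, w ∈ W ↔ w ∈ N ∧ ∀ n ∈ N, w * n * w⁻¹ * n⁻¹ ∈ zN N := by
    intro w
    rw [Subgroup.mem_inf, Subgroup.mem_comap, Subgroup.mem_centralizer_iff]
    apply and_congr_right
    intro _
    constructor
    · intro hw n hn
      rw [← commute_mk_iff]
      exact (hw _ (Subgroup.mem_map_of_mem _ hn)).symm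
    · rintro hw _ ⟨n, hn, rfl⟩
      exact ((commute_mk_iff _ _ _).mpr (hw n hn)).symm.eq
  have hcover : ∀ x ∈ N, x ∈ W ∨ x ∈ Subgroup.centralizer (W : Set G) := by
    intro x hx
    by_cases hxW : x ∈ W
    · exact Or.inl hxW
    · right
      have hxz : NZ N x := by
        refine nz_iff.mpr ⟨hx, fun hz => hxW ((hW x).mpr ⟨hx, fun n hn => ?_⟩)⟩
        have : x * n * x⁻¹ * n⁻¹ = 1 := by rw [((mem_zN.mp hz).2 n hn).eq]; group
        rw [this]; exact Subgroup.one_mem _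
      rcases h.dichotomy hxz with h1 | h1
      · exfalso
        apply hxW
        rw [hW]
        refine ⟨hx, fun n hn => ?_⟩
        have : x * n * x⁻¹ * n⁻¹ = (n * x * n⁻¹ * x⁻¹)⁻¹ := by group
        rw [this]; exact Subgroup.inv_mem _ (h1 n)
      · rw [Subgroup.mem_centralizer_iff]
        intro w hw
        exact (mem_cz.mp (h1 w (((hW w).mp hw).2 x hx))).eq
  rcases two_union N W _ hcover with h1 | h1
  · intro a ha b hb; exact ((hW a).mp (h1 ha)).2 b hb
  · have hWZ : W ≤ zN N := fun w hw => mem_zN.mpr ⟨((hW w).mp hw).1, fun n hn =>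
      ((Subgroup.mem_centralizer_iff.mp (h1 hn)) w hw)⟩
    have hpgrp : IsPGroup p ↥(N.map (QuotientGroup.mk' (zN N))) := by
      rintro ⟨_, n, hn, rfl⟩
      obtain ⟨k, hk⟩ := hpg n hn
      refine ⟨k, Subtype.ext ?_⟩
      show (QuotientGroup.mk' (zN N) n) ^ (p ^ k) = 1
      rw [← map_pow]; exact (QuotientGroup.eq_one_iff _).mpr hk
    have hsub : Subsingleton ↥(N.map (QuotientGroup.mk' (zN N))) := by
      by_contra hns
      rw [not_subsingleton_iff_nontrivial] at hns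
      have := hpgrp.center_nontrivial
      obtain ⟨c, hc⟩ := exists_ne (1 : Subgroup.center ↥(N.map (QuotientGroup.mk' (zN N))))
      apply hc
      obtain ⟨⟨_, w, hw, rfl⟩, hcc⟩ := c
      have hwW : w ∈ W := by
        rw [hW]; refine ⟨hw, fun n hn => ?_⟩
        rw [← commute_mk_iff]
        have := Subgroup.mem_center_iff.mp hcc
          ⟨QuotientGroup.mk' (zN N) n, Subgroup.mem_map_of_mem _ hn⟩
        exact (congrArg Subtype.val this).symm
      apply Subtype.ext; apply Subtype.ext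
      exact (QuotientGroup.eq_one_iff w).mpr (hWZ hwW)
    intro a ha b hb
    rw [← commute_mk_iff]
    have h1 : QuotientGroup.mk' (zN N) a = 1 := congrArg Subtype.val (Subsingleton.elim
      (⟨QuotientGroup.mk' (zN N) a, Subgroup.mem_map_of_mem _ ha⟩ :
        ↥(N.map (QuotientGroup.mk' (zN N)))) 1)
    rw [h1]; exact Commute.one_left _

omit [Finite G] [N.Normal] in
/-- commutators are bimultiplicative in class 2 -/
theorem commute_pow_of_pow_mem {p : ℕ} {l n : G} (hl : l ∈ N) (hn : n ∈ N)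
    (hz : l * n * l⁻¹ * n⁻¹ ∈ zN N) (hlp : l ^ p ∈ zN N) : Commute l (n ^ p) := by
  set z := l * n * l⁻¹ * n⁻¹ with hzdef
  have hzn : Commute z n := (mem_zN.mp hz).2 n hn
  have hzl : Commute z l := (mem_zN.mp hz).2 l hl
  have e1 : n * l * n⁻¹ = z⁻¹ * l := by rw [hzdef]; group
  have e2 : (n * l * n⁻¹) ^ p = l ^ p := by
    rw [conj_pow, ← ((mem_zN.mp hlp).2 n hn).eq]; group
  have e3 : (z⁻¹) ^ p = 1 := by
    rw [e1, hzl.inv_left.mul_pow] at e2
    exact mul_eq_right.mp e2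
  have e4 : z ^ p = 1 := by
    rw [inv_pow, inv_eq_one] at e3; exact e3
  have e5 : l * n * l⁻¹ = z * n := by rw [hzdef]; group
  have e6 : l * n ^ p * l⁻¹ = n ^ p := by
    rw [← conj_pow, e5, hzn.mul_pow, e4, one_mul]
  rw [commute_iff_eq]
  calc l * n ^ p = (l * n ^ p * l⁻¹) * l := by group
    _ = n ^ p * l := by rw [e6]

theorem pg (h : Hyp N) {p : ℕ} (hp : p.Prime) (hpg : ∀ n ∈ N, ∃ k : ℕ, n ^ (p ^ k) ∈ zN N) :
    (∀ a ∈ N, ∀ b ∈ N, a * b * a⁻¹ * b⁻¹ ∈ zN N) ∧ (∀ a ∈ N, a ^ p ∈ zN N) := by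
  have hc := pg_step1 h hp hpg
  refine ⟨hc, ?_⟩
  let L : Subgroup G :=
    { carrier := {n | n ∈ N ∧ n ^ p ∈ zN N}
      one_mem' := ⟨N.one_mem, by rw [one_pow]; exact Subgroup.one_mem _⟩
      mul_mem' := by
        rintro a b ⟨ha, hap⟩ ⟨hb, hbp⟩
        refine ⟨N.mul_mem ha hb, ?_⟩
        rw [← QuotientGroup.eq_one_iff]
        show QuotientGroup.mk' (zN N) ((a * b) ^ p) = 1
        rw [map_pow, map_mul, ((commute_mk_iff _ _ _).mpr (hc a ha b hb)).mul_pow, ← map_pow,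
          ← map_pow]
        have h1 : QuotientGroup.mk' (zN N) (a ^ p) = 1 := (QuotientGroup.eq_one_iff _).mpr hap
        have h2 : QuotientGroup.mk' (zN N) (b ^ p) = 1 := (QuotientGroup.eq_one_iff _).mpr hbp
        rw [h1, h2, one_mul]
      inv_mem' := by
        rintro a ⟨ha, hap⟩
        exact ⟨N.inv_mem ha, by rw [inv_pow]; exact Subgroup.inv_mem _ hap⟩ }
  have hL : ∀ n, n ∈ L ↔ n ∈ N ∧ n ^ p ∈ zN N := fun n => Iff.rfl
  have hcover : ∀ n ∈ N, n ∈ L ∨ n ∈ Subgroup.centralizer (L : Set G) := by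
    intro n hn
    by_cases hnp : n ^ p ∈ zN N
    · exact Or.inl ⟨hn, hnp⟩
    · right
      have hnpz : NZ N (n ^ p) := nz_iff.mpr ⟨N.pow_mem hn p, hnp⟩
      have hnz : NZ N n := NZ.of_pow hn hnpz
      have he := h.cz_eq_of_le hnz hnpz (cz_le_cz_pow n p)
      rw [Subgroup.mem_centralizer_iff]
      intro l hl
      have hl' := (hL l).mp hl
      have h1 : l ∈ cz (n ^ p) :=
        mem_cz.mpr (commute_pow_of_pow_mem hl'.1 hn (hc l hl'.1 n hn) hl'.2)
      rw [← he] at h1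
      exact (mem_cz.mp h1).eq
  rcases two_union N L _ hcover with h1 | h1
  · intro a ha; exact ((hL a).mp (h1 ha)).2
  · have hLZ : L ≤ zN N := fun l hl => mem_zN.mpr ⟨((hL l).mp hl).1, fun n hn =>
      ((Subgroup.mem_centralizer_iff.mp (h1 hn)) l hl)⟩
    have hall : ∀ k : ℕ, ∀ n ∈ N, n ^ (p ^ k) ∈ zN N → n ∈ zN N := by
      intro k
      induction k with
      | zero => intro n _ hk; simpa using hk
      | succ k ih =>
        intro n hn hk
        apply ih n hn
        apply hLZ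
        rw [hL]
        refine ⟨N.pow_mem hn _, ?_⟩
        rw [← pow_mul, ← pow_succ]
        exact hk
    intro a ha
    obtain ⟨k, hk⟩ := hpg a ha
    exact Subgroup.pow_mem _ (hall k a ha hk) p

end Cfsg.Agent.Lib.Helper69.MaxCent
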