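import Cfsg.Agent.Lib.Helper69.MaxCent.CL

/-! # S3905, piece RED: passing to `G / Z(N)` -/

set_option autoImplicit false

namespace Cfsg.Agent.Lib.Helper69.MaxCent

variable {G : Type*} [Group G] [Finite G] {N : Subgroup G} [N.Normal]

theorem commute_mk_iff (Z : Subgroup G) [Z.Normal] (g x : G) :
    Commute (QuotientGroup.mk' Z g) (QuotientGroup.mk' Z x) ↔ g * x * g⁻¹ * x⁻¹ ∈ Z := by
  rw [commute_iff_eq, ← (QuotientGroup.eq_one_iff _)]
  show _ ↔ QuotientGroup.mk' Z (g * x * g⁻¹ * x⁻¹) = 1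
  rw [map_mul, map_mul, map_mul, map_inv, map_inv, mul_inv_eq_one, mul_inv_eq_iff_eq_mul]

theorem red (h : Hyp N)
    (h2 : ∀ x, NZ N x → ∀ g : G, g * x * g⁻¹ * x⁻¹ ∈ zN N → g ∈ cz x) :
    CL (N.map (QuotientGroup.mk' (zN N))) := by
  have hcomap : ∀ x, NZ N x →
      (cz (QuotientGroup.mk' (zN N) x)).comap (QuotientGroup.mk' (zN N)) = cz x := by
    intro x hx
    ext g
    rw [Subgroup.mem_comap, mem_cz, commute_mk_iff]
    constructor
    · exact h2 x hx g
    · intro hg
      have : g * x * g⁻¹ * x⁻¹ = 1 := by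
        rw [(mem_cz.mp hg).eq]; group
      rw [this]
      exact Subgroup.one_mem _
  have hinj := Subgroup.comap_injective (QuotientGroup.mk'_surjective (zN N))
  constructor
  · rintro _ ⟨x, hx, rfl⟩ hx1
    have hnz : NZ N x := nz_iff.mpr ⟨hx, fun hz => hx1 ((QuotientGroup.eq_one_iff x).mpr hz)⟩
    have hco := h x hnz.1 hnz.2
    constructor
    · intro htop
      apply hco.1
      rw [← hcomap x hnz, htop, Subgroup.comap_top]
    · intro K hK
      apply hinj
      rw [Subgroup.comap_top]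
      apply hco.2
      rw [← hcomap x hnz]
      exact lt_of_le_of_ne (Subgroup.comap_mono hK.le) (fun he => hK.ne (hinj he))
  · rw [eq_bot_iff]
    intro y hy
    rw [mem_zN] at hy
    obtain ⟨⟨x, hx, rfl⟩, hy2⟩ := hy
    rw [Subgroup.mem_bot]
    by_contra hx1
    have hnz : NZ N x := nz_iff.mpr ⟨hx, fun hz => hx1 ((QuotientGroup.eq_one_iff x).mpr hz)⟩
    apply hnz.not_le
    intro n hn
    apply h2 x hnz n
    rw [← commute_mk_iff]
    exact (hy2 _ (Subgroup.mem_map_of_mem _ hn)).symm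

end Cfsg.Agent.Lib.Helper69.MaxCent
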