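import Cfsg.Agent.Lib.Helper69.MaxCent.Sub

/-! # S3905, piece S2a: centralizers of `p`-elements are Sylow normalizers -/

set_option autoImplicit false

namespace Cfsg.Agent.Lib.Helper69.MaxCent

variable {G : Type*} [Group G] [Finite G] {N : Subgroup G} [hNn : N.Normal]

theorem exists_sylow (h : CL N) (hno : NoAb N) {p : ℕ} [hp : Fact p.Prime] {x : ↥N} (hx : x ≠ 1)
    (hk : ∃ k, orderOf x = p ^ k) :
    ∃ P : Sylow p ↥N, x ∈ P ∧
      Subgroup.normalizer ((P : Subgroup ↥N) : Set ↥N) = Subgroup.centralizer ({x} : Set ↥N) := by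
  have hxG : (x : G) ≠ 1 := fun h' => hx (Subtype.ext h')
  have hnz : NZ N (x : G) := h.nz x.2 hxG
  set M := Subgroup.centralizer ({x} : Set ↥N) with hM
  have nil : Group.IsNilpotent ↥M :=
    Group.of_quotient_center_nilpotent (isPGroup_quot_sub h.hyp hp.out hnz hk).isNilpotent
  obtain ⟨S⟩ : Nonempty (Sylow p ↥M) := inferInstance
  have hSn : (S : Subgroup ↥M).Normal := inferInstance
  set PM := (S : Subgroup ↥M).map M.subtype with hPM
  have hPMle : PM ≤ M := Subgroup.map_subtype_le _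
  have hPMp : IsPGroup p PM := S.isPGroup'.map _
  have hpel : ∀ m ∈ M, (∃ k, orderOf m = p ^ k) → m ∈ PM := by
    rintro m hm ⟨k, hk⟩
    have h1 : IsPGroup p (Subgroup.zpowers (⟨m, hm⟩ : ↥M)) := by
      apply IsPGroup.of_card (n := k)
      rw [Nat.card_zpowers, ← hk, ← Subgroup.orderOf_coe]
    obtain ⟨S', hS'⟩ := h1.exists_le_sylow
    have : Unique (Sylow p ↥M) := Sylow.unique_of_normal S hSn
    have hSS : S' = S := Subsingleton.elim _ _
    rw [hSS] at hS'
    exact ⟨⟨m, hm⟩, hS' (Subgroup.mem_zpowers _), rfl⟩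
  have hxM : x ∈ M := Cfsg.Agent.S4262.mem_cent.mpr rfl
  have hxPM : x ∈ PM := hpel x hxM hk
  set PG := PM.map N.subtype with hPG
  have hPGN : PG ≤ N := Subgroup.map_subtype_le _
  have hPGmem : ∀ y : G, y ∈ PG ↔ y ∈ N ⊓ cz (x : G) ∧ ∃ k, orderOf y = p ^ k := by
    intro y
    constructor
    · rintro ⟨m, hm, rfl⟩
      refine ⟨mem_centralizer_sub.mp (hPMle hm), ?_⟩
      obtain ⟨k, hk⟩ := IsPGroup.iff_orderOf.mp hPMp ⟨m, hm⟩
      refine ⟨k, ?_⟩
      rw [← hk, ← Subgroup.orderOf_coe, ← Subgroup.orderOf_coe]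
      rfl
    · rintro ⟨hy, k, hk⟩
      exact ⟨⟨y, hy.1⟩, hpel _ (mem_centralizer_sub.mpr hy)
        ⟨k, by rw [← hk, ← Subgroup.orderOf_coe]⟩, rfl⟩
  have hconj : ∀ g ∈ cz (x : G), ∀ y ∈ PG, g * y * g⁻¹ ∈ PG := by
    intro g hg y hy
    rw [hPGmem] at hy ⊢
    refine ⟨⟨hNn.conj_mem y hy.1.1 g, ?_⟩, ?_⟩
    · exact Subgroup.mul_mem _ (Subgroup.mul_mem _ hg hy.1.2) (Subgroup.inv_mem _ hg)
    · have : orderOf (g * y * g⁻¹) = orderOf y := (MulAut.conj g).orderOf_eq y
      rw [this]; exact hy.2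
  have hczN : cz (x : G) ≤ Subgroup.normalizer (PG : Set G) := by
    intro g hg
    rw [Subgroup.mem_normalizer_iff]
    intro y
    constructor
    · exact hconj g hg y
    · intro hy
      have := hconj g⁻¹ (Subgroup.inv_mem _ hg) _ hy
      have h2 : g⁻¹ * (g * y * g⁻¹) * g⁻¹⁻¹ = y := by group
      rwa [h2] at this
  have hNtop : Subgroup.normalizer (PG : Set G) ≠ ⊤ := by
    intro htop
    have h1 : PG.Normal := Subgroup.normalizer_eq_top_iff.mp htop
    have h2 : (PG ⊓ Subgroup.centralizer (PG : Set G)).Normal := inferInstance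
    have h3 := hno _ h2 (inf_le_left.trans hPGN)
      (fun a ha b hb => (Subgroup.mem_centralizer_iff.mp hb.2 a ha.1))
    have hxB : (x : G) ∈ PG ⊓ Subgroup.centralizer (PG : Set G) := by
      refine Subgroup.mem_inf.mpr ⟨⟨x, hxPM, rfl⟩, ?_⟩
      rw [Subgroup.mem_centralizer_iff]
      intro y hy
      exact (mem_cz.mp ((hPGmem y).mp hy).1.2).eq
    rw [h3, Subgroup.mem_bot] at hxB
    exact hxG hxB
  have hNG : Subgroup.normalizer (PG : Set G) = cz (x : G) := by
    rcases (h.coatom x x.2 hxG).le_iff.mp hczN with h1 | h1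
    · exact absurd h1 hNtop
    · exact h1
  have hPGsub : PG.subgroupOf N = PM := by
    rw [Subgroup.subgroupOf, hPG, Subgroup.comap_map_eq_self_of_injective N.subtype_injective]
  have hN : Subgroup.normalizer (PM : Set ↥N) = M := by
    rw [← hPGsub, ← Subgroup.subgroupOf_normalizer_eq hPGN, hNG]
    ext n
    rw [Subgroup.mem_subgroupOf, hM, mem_centralizer_sub, Subgroup.mem_inf]
    exact ⟨fun h' => ⟨n.2, h'⟩, fun h' => h'.2⟩
  have hidx : ¬ p ∣ PM.index := by
    obtain ⟨n, hn⟩ := IsPGroup.iff_card.mp hPMp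
    have h1 := Sylow.card_quotient_normalizer_modEq_card_quotient hn
    have h2 : Nat.card (↥(Subgroup.normalizer (PM : Set ↥N)) ⧸
        PM.comap (Subgroup.normalizer (PM : Set ↥N)).subtype) =
          PM.relIndex (Subgroup.normalizer (PM : Set ↥N)) := rfl
    rw [h2, hN] at h1
    have h3 : PM.relIndex M = (S : Subgroup ↥M).index := by
      rw [Subgroup.relIndex, Subgroup.subgroupOf, hPM,
        Subgroup.comap_map_eq_self_of_injective M.subtype_injective]
    rw [h3] at h1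
    intro hd
    apply S.not_dvd_index
    exact (Nat.modEq_zero_iff_dvd.mp (h1.trans (Nat.modEq_zero_iff_dvd.mpr hd)))
  refine ⟨hPMp.toSylow hidx, ?_, ?_⟩
  · exact (IsPGroup.mem_toSylow hPMp hidx).mpr hxPM
  · rw [IsPGroup.toSylow_coe]; exact hN

end Cfsg.Agent.Lib.Helper69.MaxCent
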