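import Cfsg.Agent.Lib.Helper69.MaxCent.Sub
import Cfsg.Agent.Lib.Helper69.MaxCent.S3a

/-! # S3905, piece S2b: the Sylow subgroups are not abelian -/

set_option autoImplicit false

namespace Cfsg.Agent.Lib.Helper69.MaxCent

theorem isPGroup_zpowers {X : Type*} [Group X] {p : ℕ} {c : X}
    (hk : ∃ k, orderOf c = p ^ k) : IsPGroup p (Subgroup.zpowers c) := by
  obtain ⟨k, hk⟩ := hk
  apply IsPGroup.of_card (n := k)
  rw [Nat.card_zpowers, hk]

theorem mem_sylow_of_mem_normalizer {X : Type*} [Group X] {p : ℕ} [Fact p.Prime] (P : Sylow p X)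
    {c : X} (hc : c ∈ Subgroup.normalizer ((P : Subgroup X) : Set X))
    (hk : ∃ k, orderOf c = p ^ k) : c ∈ P := by
  have h1 := (isPGroup_zpowers hk).inf_normalizer_sylow P
  have h2 : c ∈ Subgroup.zpowers c ⊓ Subgroup.normalizer (P : Set X) :=
    ⟨Subgroup.mem_zpowers c, hc⟩
  rw [h1] at h2
  exact h2.2

theorem conj_mem_normalizer {X : Type*} [Group X] {p : ℕ} (P : Sylow p X) (c n : X)
    (hn : n ∈ Subgroup.normalizer (((c • P : Sylow p X) : Subgroup X) : Set X)) :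
    c⁻¹ * n * c ∈ Subgroup.normalizer ((P : Subgroup X) : Set X) := by
  have hn' : n ∈ Subgroup.normalizer ((c • P : Sylow p X) : Set X) := hn
  show c⁻¹ * n * c ∈ Subgroup.normalizer (P : Set X)
  rw [← Sylow.smul_eq_iff_mem_normalizer] at hn' ⊢
  rw [mul_smul, mul_smul, hn', inv_smul_smul]

variable {G : Type*} [Group G] [Finite G] {N : Subgroup G} [hNn : N.Normal]

theorem not_abelian_sylow (h : CL N) (hno : NoAb N) {p : ℕ} [hp : Fact p.Prime]
    (hS : ∀ y : ↥N, y ≠ 1 → (∃ k, orderOf y = p ^ k) → ∃ P : Sylow p ↥N, y ∈ P ∧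
      Subgroup.normalizer ((P : Subgroup ↥N) : Set ↥N) = Subgroup.centralizer ({y} : Set ↥N))
    {x : ↥N} (hx : x ≠ 1) (P : Sylow p ↥N) (hxP : x ∈ P)
    (hN : Subgroup.normalizer ((P : Subgroup ↥N) : Set ↥N) = Subgroup.centralizer ({x} : Set ↥N))
    (hab : ∀ a ∈ P, ∀ b ∈ P, a * b = b * a) : False := by
  have hxG : (x : G) ≠ 1 := fun h' => hx (Subtype.ext h')
  have hnz : NZ N (x : G) := h.nz x.2 hxG
  have hxk : ∃ k, orderOf x = p ^ k := by
    obtain ⟨k, hk⟩ := IsPGroup.iff_orderOf.mp P.isPGroup' ⟨x, hxP⟩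
    exact ⟨k, (Subgroup.orderOf_mk x hxP).symm.trans hk⟩
  have hxk' : ∃ k, orderOf (x : G) = p ^ k := by
    obtain ⟨k, hk⟩ := hxk
    exact ⟨k, by rw [Subgroup.orderOf_coe, hk]⟩
  have hPH : (P : Subgroup ↥N) ≤ Subgroup.centralizer ({x} : Set ↥N) :=
    hN ▸ Subgroup.le_normalizer
  -- Burnside's hypothesis
  have hP : Subgroup.normalizer ((P : Subgroup ↥N) : Set ↥N) ≤
      Subgroup.centralizer ((P : Subgroup ↥N) : Set ↥N) := by
    intro c hc
    rw [Subgroup.mem_centralizer_iff]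
    intro a ha
    obtain ⟨i, j, hij, hi, hj⟩ := Cfsg.Agent.S4262.exists_parts p hp.out c
    have h1 : c ^ i ∈ P := mem_sylow_of_mem_normalizer P (Subgroup.zpow_mem _ hc i) hi
    have h2 : Commute (c ^ i) a := hab _ h1 a ha
    have h3 : Commute (c ^ j) a := by
      have hcj : ((c ^ j : ↥N) : G) ∈ N ⊓ cz (x : G) :=
        mem_centralizer_sub.mp (Subgroup.zpow_mem _ (hN ▸ hc) j)
      have hj' : (orderOf ((c ^ j : ↥N) : G)).Coprime p := by
        rw [Subgroup.orderOf_coe]; exact hj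
      have := h.hyp.pprime_central hnz hxk' hcj hj' (mem_centralizer_sub.mp (hPH ha))
      exact Subtype.ext this.eq
    rw [hij]
    exact (h2.mul_left h3).eq.symm
  set φ := MonoidHom.transferSylow P hP with hφ
  have hTcard : ¬ p ∣ Nat.card φ.ker := MonoidHom.not_dvd_card_ker_transferSylow P hP
  -- the kernel is the set of `p'`-elements
  have hT : ∀ t : ↥N, t ∈ φ.ker ↔ (orderOf t).Coprime p := by
    intro t
    constructor
    · intro ht
      have h1 : orderOf (⟨t, ht⟩ : φ.ker) ∣ Nat.card φ.ker := orderOf_dvd_natCard _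
      rw [← Subgroup.orderOf_coe] at h1
      exact Nat.Coprime.coprime_dvd_left h1 ((Nat.Prime.coprime_iff_not_dvd hp.out).mpr hTcard).symm
    · intro ht
      rw [MonoidHom.mem_ker]
      obtain ⟨k, hk'⟩ := IsPGroup.iff_orderOf.mp P.isPGroup' (φ t)
      have h1 : orderOf (φ t) ∣ orderOf t := orderOf_map_dvd φ _
      have h2 : (orderOf (φ t)).Coprime p := Nat.Coprime.coprime_dvd_left h1 ht
      apply eq_one_of_ppow_of_coprime (p := p) (k := k) _ h2
      rw [← hk', pow_orderOf_eq_one]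
  set TG := φ.ker.map N.subtype with hTG
  have hTGN : TG ≤ N := Subgroup.map_subtype_le _
  have hTGmem : ∀ y : G, y ∈ TG ↔ y ∈ N ∧ (orderOf y).Coprime p := by
    intro y
    constructor
    · rintro ⟨t, ht, rfl⟩
      refine ⟨t.2, ?_⟩
      have := (hT t).mp ht
      rw [← Subgroup.orderOf_coe] at this
      exact this
    · rintro ⟨hy, hyp⟩
      refine ⟨⟨y, hy⟩, (hT _).mpr ?_, rfl⟩
      rw [← Subgroup.orderOf_coe]
      exact hyp
  have hTGn : TG.Normal := by
    constructor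
    intro y hy g
    rw [hTGmem] at hy ⊢
    refine ⟨hNn.conj_mem y hy.1 g, ?_⟩
    have : orderOf (g * y * g⁻¹) = orderOf y := (MulAut.conj g).orderOf_eq y
    rw [this]; exact hy.2
  have hTZ : TG ⊓ Subgroup.centralizer (TG : Set G) = ⊥ :=
    hno _ inferInstance (inf_le_left.trans hTGN)
      (fun a ha b hb => (Subgroup.mem_centralizer_iff.mp hb.2 a ha.1))
  have hxT : (x : G) ∉ TG := by
    intro hxT
    obtain ⟨k, hk⟩ := hxk'
    apply hxG
    apply eq_one_of_ppow_of_coprime (p := p) (k := k) _ ((hTGmem _).mp hxT).2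
    rw [← hk, pow_orderOf_eq_one]
  -- centralizers of `p'`-elements are Sylow normalizers
  have hpp : ∀ t : ↥N, t ≠ 1 → (orderOf t).Coprime p → ∃ P' : Sylow p ↥N,
      Subgroup.normalizer ((P' : Subgroup ↥N) : Set ↥N) = Subgroup.centralizer ({t} : Set ↥N) := by
    intro t ht1 htp
    have htG : (t : G) ≠ 1 := fun h' => ht1 (Subtype.ext h')
    have htp' : (orderOf (t : G)).Coprime p := by rw [Subgroup.orderOf_coe]; exact htp
    have htT : (t : G) ∈ TG := (hTGmem _).mpr ⟨t.2, htp'⟩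
    have hTt : ¬ TG ≤ cz (t : G) := by
      intro hle
      apply htG
      rw [← Subgroup.mem_bot, ← hTZ]
      refine Subgroup.mem_inf.mpr ⟨htT, ?_⟩
      rw [Subgroup.mem_centralizer_iff]
      intro y hy
      exact (mem_cz.mp (hle hy)).eq
    obtain ⟨l, hl, c, hc, hxlc⟩ := h.hyp.factor (h.nz t.2 htG) TG hTGN hTt x x.2
    obtain ⟨i, j, hij, ⟨k, hi⟩, hj⟩ := Cfsg.Agent.S4262.exists_parts p hp.out c
    have hi1 : c ^ i ≠ 1 := by
      intro hi1
      rw [hi1, one_mul] at hij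
      apply hxT
      rw [hxlc]
      refine TG.mul_mem hl ((hTGmem _).mpr ⟨hc.1, ?_⟩)
      rw [hij]; exact hj
    have hyN : c ^ i ∈ N := N.zpow_mem hc.1 i
    have e1 : cz (c ^ i) = cz (t : G) := by
      apply h.hyp.cz_eq_of_coprime (h.nz hyN hi1) (h.nz t.2 htG) ((mem_cz.mp hc.2).zpow_left i)
      rw [hi]
      exact (htp'.pow_right k).symm
    obtain ⟨P', -, hP'⟩ := hS ⟨c ^ i, hyN⟩ (fun h' => hi1 (congrArg Subtype.val h'))
      ⟨k, by rw [← hi, ← Subgroup.orderOf_coe]⟩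
    refine ⟨P', ?_⟩
    rw [hP']
    ext m
    rw [mem_centralizer_sub, mem_centralizer_sub]
    show (m : G) ∈ N ⊓ cz (c ^ i) ↔ _
    rw [e1]
  -- every element lies in a conjugate of the normalizer
  have hcov : ∀ n : ↥N, ∃ c : ↥N,
      c⁻¹ * n * c ∈ Subgroup.normalizer ((P : Subgroup ↥N) : Set ↥N) := by
    intro n
    have key : ∃ P' : Sylow p ↥N, n ∈ Subgroup.normalizer ((P' : Subgroup ↥N) : Set ↥N) := by
      obtain ⟨i, j, hij, hi, hj⟩ := Cfsg.Agent.S4262.exists_parts p hp.out n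
      by_cases hj1 : n ^ j = 1
      · rw [hj1, mul_one] at hij
        rw [← hij] at hi
        obtain ⟨P', hP'⟩ := (isPGroup_zpowers hi).exists_le_sylow
        exact ⟨P', Subgroup.le_normalizer (hP' (Subgroup.mem_zpowers n))⟩
      · obtain ⟨P', hP'⟩ := hpp (n ^ j) hj1 hj
        refine ⟨P', ?_⟩
        rw [hP']
        exact mem_cz.mpr ((Commute.refl n).zpow_right j)
    obtain ⟨P', hP'⟩ := key
    obtain ⟨c, rfl⟩ := MulAction.exists_smul_eq ↥N P P'
    exact ⟨c, conj_mem_normalizer P c n hP'⟩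
  have htop : Subgroup.normalizer ((P : Subgroup ↥N) : Set ↥N) = ⊤ := by
    by_contra hne
    obtain ⟨g, hg⟩ := Cfsg.Agent.S4262.exists_not_mem_conj _ hne
    obtain ⟨c, hc⟩ := hcov g
    exact hg c hc
  apply hxG
  rw [← Subgroup.mem_bot, ← h.triv, mem_zN]
  refine ⟨x.2, fun n hn => ?_⟩
  have : (⟨n, hn⟩ : ↥N) ∈ Subgroup.centralizer ({x} : Set ↥N) := by
    rw [← hN, htop]; exact Subgroup.mem_top _
  exact (mem_cz.mp (mem_centralizer_sub.mp this).2).symm

end Cfsg.Agent.Lib.Helper69.MaxCent
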