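import Cfsg.Agent.Lib.Helper69.MaxCent.CL

/-! # S3905, piece S2c: the abstract counting argument (copy of `S4262.counting_contradiction`) -/

set_option autoImplicit false

namespace Cfsg.Agent.Lib.Helper69.MaxCent

open Cfsg.Agent.S4262 in
theorem abstract_counting {X : Type*} [Group X] [Finite X]
    (key : ∀ g : X, g ∉ Subgroup.center X → ∃ p : ℕ, p.Prime ∧ p ∣ Nat.card X ∧ ∃ P : Sylow p X,
      Subgroup.centralizer ({g} : Set X) = Subgroup.normalizer ((P : Subgroup X) : Set X) ∧
      p ^ 2 * Nat.card (Subgroup.center ↥(Subgroup.centralizer ({g} : Set X))) ≤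
        Nat.card (Subgroup.centralizer ({g} : Set X)))
    (hnc : ∃ g : X, g ∉ Subgroup.center X) : False := by
  classical
  have : Fintype X := Fintype.ofFinite X
  set n := Nat.card X with hn
  have hnpos : 0 < n := Nat.card_pos
  -- the pieces
  let B : (p : ℕ) → Sylow p X → Finset X := fun p P =>
    Finset.univ.filter (fun g => g ∉ Subgroup.center X ∧
      Subgroup.centralizer ({g} : Set X) = Subgroup.normalizer ((P : Subgroup X) : Set X) ∧
      p ^ 2 * Nat.card (Subgroup.center ↥(Subgroup.centralizer ({g} : Set X))) ≤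
        Nat.card (Subgroup.centralizer ({g} : Set X)))
  have hB : ∀ (p : ℕ) [Fact p.Prime] (P : Sylow p X),
      (B p P).card * p ^ 2 * Nat.card (Sylow p X) ≤ n := by
    intro p _ P
    rcases (B p P).eq_empty_or_nonempty with he | ⟨g₀, hg₀⟩
    · rw [he]; simp
    · have hg₀' := (Finset.mem_filter.mp hg₀).2
      have h1 : (B p P).card ≤ Nat.card (Subgroup.center ↥(Subgroup.centralizer ({g₀} : Set X))) := by
        apply card_fiber_le
        intro g hg
        have hg' := (Finset.mem_filter.mp hg).2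
        rw [hg'.2.1, hg₀'.2.1]
      have h2 : (B p P).card * p ^ 2 ≤ Nat.card (Subgroup.centralizer ({g₀} : Set X)) :=
        le_trans (by rw [mul_comm]; exact Nat.mul_le_mul_left _ h1) hg₀'.2.2
      have h3 : Nat.card (Subgroup.centralizer ({g₀} : Set X)) * Nat.card (Sylow p X) = n := by
        rw [hg₀'.2.1, Sylow.card_eq_index_normalizer P]
        exact Subgroup.card_mul_index _
      rw [← h3]
      exact Nat.mul_le_mul_right _ h2
  have hA : ∀ p ∈ n.primeFactors, ∃ A : Finset X, A.card * p ^ 2 ≤ n ∧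
      ∀ g, g ∉ Subgroup.center X → (∃ P : Sylow p X,
      Subgroup.centralizer ({g} : Set X) = Subgroup.normalizer ((P : Subgroup X) : Set X) ∧
      p ^ 2 * Nat.card (Subgroup.center ↥(Subgroup.centralizer ({g} : Set X))) ≤
        Nat.card (Subgroup.centralizer ({g} : Set X))) → g ∈ A := by
    intro p hp
    have : Fact p.Prime := ⟨Nat.prime_of_mem_primeFactors hp⟩
    have : Fintype (Sylow p X) := Fintype.ofFinite _
    refine ⟨Finset.univ.biUnion (B p), ?_, ?_⟩
    · have h1 : (Finset.univ.biUnion (B p)).card ≤ ∑ P : Sylow p X, (B p P).card :=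
        Finset.card_biUnion_le
      have hs : 0 < Nat.card (Sylow p X) := Nat.card_pos
      apply Nat.le_of_mul_le_mul_right _ hs
      calc (Finset.univ.biUnion (B p)).card * p ^ 2 * Nat.card (Sylow p X)
          ≤ (∑ P : Sylow p X, (B p P).card) * p ^ 2 * Nat.card (Sylow p X) := by gcongr
        _ = ∑ P : Sylow p X, (B p P).card * p ^ 2 * Nat.card (Sylow p X) := by
            rw [Finset.sum_mul, Finset.sum_mul]
        _ ≤ ∑ _P : Sylow p X, n := Finset.sum_le_sum (fun P _ => hB p P)
        _ = n * Nat.card (Sylow p X) := by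
            rw [Finset.sum_const, Finset.card_univ, Nat.card_eq_fintype_card, smul_eq_mul, mul_comm]
    · rintro g hg ⟨P, h1, h2⟩
      exact Finset.mem_biUnion.mpr ⟨P, Finset.mem_univ _, Finset.mem_filter.mpr ⟨Finset.mem_univ _, hg, h1, h2⟩⟩
  choose! A hA1 hA2 using hA
  have hcover : (Finset.univ.filter (fun g : X => g ∉ Subgroup.center X)) ⊆ n.primeFactors.biUnion A := by
    intro g hg
    have hg' := (Finset.mem_filter.mp hg).2
    obtain ⟨p, hp, hpn, P, h1, h2⟩ := key g hg'
    have hpm : p ∈ n.primeFactors := Nat.mem_primeFactors.mpr ⟨hp, hpn, hnpos.ne'⟩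
    exact Finset.mem_biUnion.mpr ⟨p, hpm, hA2 p hpm g hg' ⟨P, h1, h2⟩⟩
  have hcard1 : (Finset.univ.filter (fun g : X => g ∉ Subgroup.center X)).card + Nat.card (Subgroup.center X) = n := by
    have h1 := Finset.card_filter_add_card_filter_not (s := (Finset.univ : Finset X)) (fun g : X => g ∈ Subgroup.center X)
    rw [Finset.card_univ, ← Nat.card_eq_fintype_card] at h1
    have h2 : (Finset.univ.filter (fun g : X => g ∈ Subgroup.center X)).card = Nat.card (Subgroup.center X) := by
      rw [Nat.card_eq_fintype_card, Fintype.card_subtype]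
    rw [← h2, add_comm]; exact h1
  have hcard2 : (Finset.univ.filter (fun g : X => g ∉ Subgroup.center X)).card ≤ ∑ p ∈ n.primeFactors, (A p).card :=
    (Finset.card_le_card hcover).trans Finset.card_biUnion_le
  have h4 := four_mul_card_center_le hnc
  have hn2 : 2 ≤ n := by
    have : 0 < Nat.card (Subgroup.center X) := Nat.card_pos
    omega
  have hsum : (∑ p ∈ n.primeFactors, ((A p).card : ℚ)) ≤ n * (3 / 4 - 1 / n) := by
    calc (∑ p ∈ n.primeFactors, ((A p).card : ℚ)) ≤ ∑ p ∈ n.primeFactors, (n : ℚ) * (1 / (p : ℚ) ^ 2) := by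
          apply Finset.sum_le_sum
          intro p hp
          have hp0 : (0 : ℚ) < (p : ℚ) ^ 2 := by
            have := (Nat.prime_of_mem_primeFactors hp).pos
            positivity
          rw [mul_one_div, le_div_iff₀ hp0]
          exact_mod_cast hA1 p hp
      _ = n * ∑ p ∈ n.primeFactors, (1 / (p : ℚ) ^ 2) := by rw [Finset.mul_sum]
      _ ≤ n * ∑ p ∈ Finset.Icc 2 n, (1 / (p : ℚ) ^ 2) := by
          apply mul_le_mul_of_nonneg_left _ (by positivity)
          apply Finset.sum_le_sum_of_subset_of_nonneg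
          · intro p hp
            rw [Finset.mem_Icc]
            exact ⟨(Nat.prime_of_mem_primeFactors hp).two_le, Nat.le_of_dvd hnpos (Nat.dvd_of_mem_primeFactors hp)⟩
          · intro p _ _; positivity
      _ ≤ n * (3 / 4 - 1 / n) := by
          apply mul_le_mul_of_nonneg_left (sum_inv_sq_le n hn2) (by positivity)
  have hq1 : ((Finset.univ.filter (fun g : X => g ∉ Subgroup.center X)).card : ℚ) ≤ n * (3 / 4 - 1 / n) := by
    refine le_trans ?_ hsum
    exact_mod_cast hcard2
  have hq2 : ((Finset.univ.filter (fun g : X => g ∉ Subgroup.center X)).card : ℚ) + (Nat.card (Subgroup.center X) : ℚ) = n := by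
    exact_mod_cast hcard1
  have hq3 : (4 : ℚ) * (Nat.card (Subgroup.center X) : ℚ) ≤ n := by exact_mod_cast h4
  have hn0 : (0 : ℚ) < n := by exact_mod_cast hnpos
  have hq4 : (n : ℚ) * (3 / 4 - 1 / n) = 3 / 4 * n - 1 := by
    field_simp
  rw [hq4] at hq1
  linarith

end Cfsg.Agent.Lib.Helper69.MaxCent
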