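import Cfsg.Agent.Lib.Helper69.MaxCent.S2a
import Cfsg.Agent.Lib.Helper69.MaxCent.S2b
import Cfsg.Agent.Lib.Helper69.MaxCent.S2c

/-! # S3905, piece S2d: existence of an abelian normal subgroup -/

set_option autoImplicit false

namespace Cfsg.Agent.Lib.Helper69.MaxCent

variable {G : Type*} [Group G] [Finite G] {N : Subgroup G} [N.Normal]

/-- S2d -/
theorem exists_abelian_normal (h : CL N) (hN : N ≠ ⊥) : ¬ NoAb N := by
  intro hno
  have hcen : ∀ g : ↥N, g ∈ Subgroup.center ↥N → g = 1 := by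
    intro g hg
    have h1 : (g : G) ∈ zN N := by
      refine mem_zN.mpr ⟨g.2, fun n hn => ?_⟩
      have := (Subgroup.mem_center_iff.mp hg) ⟨n, hn⟩
      exact (congrArg Subtype.val this).symm
    rw [h.triv, Subgroup.mem_bot] at h1
    exact Subtype.ext h1
  apply abstract_counting (X := ↥N)
  · intro g hg
    have hg1 : g ≠ 1 := by
      rintro rfl
      exact hg (Subgroup.one_mem _)
    have hgG : (g : G) ≠ 1 := fun h' => hg1 (Subtype.ext h')
    obtain ⟨p, i, hp, hnz, ⟨k, hk⟩, hcz⟩ := h.hyp.exists_primary (g : G) (h.nz g.2 hgG)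
    have : Fact p.Prime := ⟨hp⟩
    have hxc : ((g ^ i : ↥N) : G) = (g : G) ^ i := by simp
    have hx1 : g ^ i ≠ 1 := by
      intro h'
      apply hnz.ne_one
      rw [← hxc, h']
      rfl
    have hxk : orderOf (g ^ i) = p ^ k := by
      rw [← Subgroup.orderOf_coe, hxc, hk]
    have hcent : Subgroup.centralizer ({g} : Set ↥N) = Subgroup.centralizer ({g ^ i} : Set ↥N) := by
      ext m
      rw [mem_centralizer_sub, mem_centralizer_sub, hxc, hcz]
    obtain ⟨P, hxP, hPN⟩ := exists_sylow h hno hx1 ⟨k, hxk⟩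
    refine ⟨p, hp, ?_, P, ?_, ?_⟩
    · have hk0 : k ≠ 0 := by
        rintro rfl
        rw [pow_zero, orderOf_eq_one_iff] at hxk
        exact hx1 hxk
      exact (dvd_pow_self p hk0).trans (hxk ▸ orderOf_dvd_natCard (g ^ i))
    · rw [hcent, hPN]
    · rw [hcent]
      have hnz' : NZ N ((g ^ i : ↥N) : G) := hxc ▸ hnz
      obtain ⟨n, hn⟩ := IsPGroup.iff_card.mp (isPGroup_quot_sub h.hyp hp hnz' ⟨k, hxk⟩)
      have h2 : 2 ≤ n := by
        by_contra hlt
        have h1 : Nat.card (↥(Subgroup.centralizer ({g ^ i} : Set ↥N)) ⧸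
            Subgroup.center ↥(Subgroup.centralizer ({g ^ i} : Set ↥N))) ∣ p := by
          rw [hn]
          have : n = 0 ∨ n = 1 := by omega
          rcases this with rfl | rfl <;> simp
        apply not_abelian_sylow h hno (fun y hy hyk => exists_sylow h hno hy hyk) hx1 P hxP hPN
        intro a ha b hb
        have hle : (P : Subgroup ↥N) ≤ Subgroup.centralizer ({g ^ i} : Set ↥N) :=
          hPN ▸ Subgroup.le_normalizer
        have := Cfsg.Agent.S4262.comm_of_card_quot_dvd_prime h1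
          (⟨a, hle ha⟩ : ↥(Subgroup.centralizer ({g ^ i} : Set ↥N))) ⟨b, hle hb⟩
        exact congrArg Subtype.val this
      have h3 := Subgroup.card_eq_card_quotient_mul_card_subgroup
        (Subgroup.center ↥(Subgroup.centralizer ({g ^ i} : Set ↥N)))
      rw [h3, hn]
      exact Nat.mul_le_mul_right _ (Nat.pow_le_pow_right hp.pos h2)
  · obtain ⟨g, hg⟩ := Subgroup.ne_bot_iff_exists_ne_one.mp hN
    exact ⟨g, fun hc => hg (hcen _ hc)⟩

end Cfsg.Agent.Lib.Helper69.MaxCent
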