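import Cfsg.Agent.Lib.Helper69.MaxCent.CL

/-! # S3905: centralizers inside `↥N` -/

set_option autoImplicit false

namespace Cfsg.Agent.Lib.Helper69.MaxCent

variable {G : Type*} [Group G] [Finite G] {N : Subgroup G} [N.Normal]

omit [Finite G] [N.Normal] in
theorem mem_centralizer_sub {x m : ↥N} :
    m ∈ Subgroup.centralizer ({x} : Set ↥N) ↔ (m : G) ∈ N ⊓ cz (x : G) := by
  have h1 : m ∈ Subgroup.centralizer ({x} : Set ↥N) ↔ Commute m x := mem_cz
  rw [h1, Subgroup.mem_inf, mem_cz]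
  constructor
  · intro h
    exact ⟨m.2, congrArg Subtype.val h.eq⟩
  · rintro ⟨_, h⟩
    exact Subtype.ext h.eq

omit [N.Normal] in
theorem isPGroup_quot_sub (h : Hyp N) {p : ℕ} (hp : p.Prime) {x : ↥N} (hx : NZ N (x : G))
    (hk : ∃ k, orderOf x = p ^ k) :
    IsPGroup p (↥(Subgroup.centralizer ({x} : Set ↥N)) ⧸
      Subgroup.center ↥(Subgroup.centralizer ({x} : Set ↥N))) := by
  intro q
  induction q using QuotientGroup.induction_on with
  | H m =>
    obtain ⟨e, s, hs, hes⟩ :=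
      Nat.exists_eq_pow_mul_and_not_dvd (orderOf_pos ((m : ↥N) : G)).ne' p hp.ne_one
    refine ⟨e, ?_⟩
    rw [← QuotientGroup.mk_pow, QuotientGroup.eq_one_iff, Subgroup.mem_center_iff]
    intro m'
    have h1 : (((m : ↥N) : G) ^ (p ^ e)) ^ s = 1 := by
      rw [← pow_mul, ← hes, pow_orderOf_eq_one]
    have h2 : (orderOf (((m : ↥N) : G) ^ (p ^ e))).Coprime p :=
      Nat.Coprime.coprime_dvd_left (orderOf_dvd_of_pow_eq_one h1)
        ((Nat.Prime.coprime_iff_not_dvd hp).mpr hs).symm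
    have hk' : ∃ k, orderOf (x : G) = p ^ k := by
      obtain ⟨k, hk⟩ := hk
      exact ⟨k, by rw [Subgroup.orderOf_coe, hk]⟩
    have h3 := h.pprime_central hx hk'
      (Subgroup.pow_mem _ (mem_centralizer_sub.mp m.2) (p ^ e)) h2 (mem_centralizer_sub.mp m'.2)
    apply Subtype.ext
    apply Subtype.ext
    simpa using h3.eq.symm

end Cfsg.Agent.Lib.Helper69.MaxCent
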